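import Cfsg.Agent.H878.Sz.MainThree
import Cfsg.Agent.H920.FormUniq
import Cfsg.Agent.Lib.PackCol
import Cfsg.Agent.Prune
set_option linter.all false
prune_inst 0x7ffcb9ffebfcbbffffff7e7fa6deeffdfbb9bfffe6dff9cbffe061ffbb9f7b8ac9c57bad8fea91fe1ef7ea1490fa7b53ff7eeeffea6fdc7ffffdfff41ffbffdffdf7b50851be8cb40ffc6ff783f0778e7f3fffffffffffffffffffffffffffbeffbfffffffff
open scoped Cfsg.Agent.FastGrp

-- part: H878/Sz/NData
section
/-!
# Words in the sixfold cover of `Suz`: the subgroup `6.2^(4+6):3A₆` (helper878)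

Letters: `0..6 = a..g`, `7 = z` (scalar 3), `8 = y` (order 5), `9 = y⁻¹`, `10 = y a y⁻¹`, `11 = j`, `12..15 = κ₁..κ₄`,
`16, 17, 18` of order 3.
-/

set_option autoImplicit false
set_option maxRecDepth 100000

namespace Cfsg.Agent.H878.Sz.N

open Cfsg Cfsg.Spor Cfsg.Agent.H58.SuzRep Cfsg.Agent.Lib.PackMat Cfsg.Agent.H878.Sz

/-- packed matrix -/
def cY : ℕ := 0xc0300c050140501400008030040500c030040001405014030140400c05014040140201806018050180401002014040100600802018050180501006014050140600400018050180501402018060180300c0300c01000060080300403004050140501003014030040400c030040201405014030140000c05000020180300c030100600c06018030100100c0501405000030140300c0501806018030000400c0600c060180100c010040501405014010100300c04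
/-- packed matrix -/
def cYi : ℕ := 0x802010040100100c02018000040200802018060100100802014030040300803010060100100c03004020040301003014010040201000008040080401004004050000201004008040140401004004050180201004008040000401004004010040201804000030080401402010040100000802004020040300004004010040501004008040080600800018040100100805004020040200c02018060100500c020040200402010040140101402018040080400c06
/-- packed matrix -/
def cB : ℕ := 0x140500c050080400c0000006008000140501403008020180000003010000180501405010010140000006010000140601405010040180000005004000080200401000000080601402000060040201001000000040500c0200005018030140300804014000000500800000000000000c050000301000014020000000000014060000100c000180100c0600c05008020140000005010000080100404000000080500c0100005000000000000c05000020100001403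
/-- packed matrix -/
def cJ : ℕ := 0x1402010040080001000008020080101001008020040400c050040101806008040040001002004040180401000008040180501802004060100401002010010080300406008010040501804018020100400c010100200803008050080600401010020040600c060100200c05008030040400c0100401004040100100c020040400001004000040401001008020140600c0101801004040100000802000040080100401014040040300c0400805010020080200805
/-- packed matrix -/
def cK1 : ℕ := 0x1400008000080200805008020000500c050000500000000020000001402014000040001004004050040400005000020140400c0500c00018060040000002018010140300c0001406010000140001000004010100501001000050000200c0100c060140001805010000080500005000000000300000014020000200c04014060180001403004000000201804018030140000c05004000000201401018050180000c0301000008050000500000000020000001403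
/-- packed matrix -/
def cK2 : ℕ := 0x180200401008000040200c030080400800010060040201001014010040300404008030100100004010060180100404014050100500804010040100100c0101006000020100500401004020140101004004020180100401004050100201401008040000300c02008040040600802010010080301003010010040400802018010080400c0400c010040400c02000010080401006010050140000c0201001008040100401801010020040100800004030080200c06
/-- packed matrix -/
def cK3 : ℕ := 0x18010080600c0300402010030080101800008040080200402010020140101001008040080001402010050080101001008060080200400010020080600403010050180400c04004040180201806008040080200402010020000100c0401403004010180100c01004040040201005010040080300404010000040200c0101804008040000401002008040040200406018010080000404010010000400c020040200c020080100c040040201401018050080100406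
/-- packed matrix -/
def cK4 : ℕ := 0x1004030100400c06004010080101803010010080500402010040040400802008040140100c01008020100500401014050100400804004010140100803008040000101005008020180200401004020100600c040040000c010080300004004010180100c0201002004010040201004008030180500801000040100100802004020180401406004050040301004008040040000805004010040300006008040140100801010040000100803004030100400406
/-- packed matrix -/
def cT0 : ℕ := 0x8010040200404004010080400c040040600403014040140100804008040040101803004040040100c04008060100601806010030100400402004020040500402018040040100806008060080200806008060080301005010010040500402004040180500c0400804004010040200406014060080400806010040180101002018040180300402008020080400c050080201806010010180401001010020100400402008020080200c0400c01008030100101006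
/-- packed matrix -/
def cT1 : ℕ := 0xc000140200000000040000600006014040000500804008030080000400000050100000c06014000140100c040080001403000000000400006000060000601000014050140000c0400c01000030080000c0500c000140400c0201402000050100200403010000080000005008000140300c0000c0200c040100000c040000000005000050000500003010000140500c00018010140400005010000180300c00014040140100c020000300802004060080000400
/-- packed matrix -/
def cT2 : ℕ := 0x18000080000c0500800008030000000002004000180600800008060000000c0500005004020000500001014050000000402018050100000403000000080200c02000000180400c000100101002014010000001804018000040400c06000030100400003000010140600000010000140500806004060000000c060000500404000060000400c030080200c040000000c010180000804000000040000c05004000100600800000000100001805004000080500006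
/-- word of `y` -/
def wy : List ℕ := [7, 7, 7, 7, 1, 0, 3, 2, 1, 6, 5, 1, 0, 1, 5, 0, 1, 6, 2, 3, 2, 1]
/-- word of `t₀` -/
def wt0 : List ℕ := [1, 0, 3, 2, 6, 1, 0, 2, 1, 0, 3, 2, 1, 6, 3, 2, 3, 1, 1, 0, 3, 2, 6, 1, 0, 2, 1, 0, 3, 2, 1, 6, 3, 2, 3, 1]
/-- word of `t₁` -/
def wt1 : List ℕ := [1, 0, 2, 1, 0, 1, 1, 3, 2, 3, 2, 1, 6, 1, 2, 3, 2, 1, 5, 1, 6, 2, 3, 1, 1, 0, 1, 2, 0, 1]

/-- the element of order 5 -/
def ny : Y := (wy.map base).prod
/-- element of order 3 -/
def nt0 : Y := (wt0.map base).prod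
/-- element of order 3 -/
def nt1 : Y := (wt1.map base).prod

theorem cd_ny : Cd ny cY := cd_of_prod (forall₂_map cd_base wy) (by decide +kernel) (by decide +kernel)
theorem cd_nyi : Cd ny⁻¹ cYi := cd_inv cd_ny (by decide +kernel) (by decide +kernel)
theorem cd_nt0 : Cd nt0 cT0 := cd_of_prod (forall₂_map cd_base wt0) (by decide +kernel) (by decide +kernel)
theorem cd_nt1 : Cd nt1 cT1 := cd_of_prod (forall₂_map cd_base wt1) (by decide +kernel) (by decide +kernel)

/-- letters, first stage -/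
def l1 : ℕ → Y
  | 0 => s .a
  | 1 => s .b
  | 2 => s .c
  | 3 => s .d
  | 4 => s .e
  | 5 => s .f
  | 6 => s .g
  | 7 => z
  | 8 => ny
  | 9 => ny⁻¹
  | 10 => nt0
  | _ => nt1

/-- codes, first stage -/
def c1 : ℕ → ℕ
  | 0 => mA
  | 1 => mB
  | 2 => mC
  | 3 => mD
  | 4 => mE
  | 5 => mF
  | 6 => mG
  | 7 => cZ
  | 8 => cY
  | 9 => cYi
  | 10 => cT0
  | _ => cT1

theorem cd_l1 : ∀ k, Cd (l1 k) (c1 k)
  | 0 => cd_s .a
  | 1 => cd_s .b
  | 2 => cd_s .c
  | 3 => cd_s .d
  | 4 => cd_s .e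
  | 5 => cd_s .f
  | 6 => cd_s .g
  | 7 => cd_base 7
  | 8 => cd_ny
  | 9 => cd_nyi
  | 10 => cd_nt0
  | _ + 11 => cd_nt1

/-- second stage -/
def w2 : ℕ → List ℕ
  | 10 => [8, 0, 9]
  | 11 => [10, 4, 10, 10]
  | 12 => [8, 4, 9, 7, 7, 7, 4]
  | 13 => [8, 8, 4, 9, 9, 7, 7, 7, 4]
  | 14 => [8, 8, 8, 4, 9, 9, 9, 7, 7, 7, 4]
  | 15 => [8, 8, 8, 8, 4, 9, 9, 9, 9, 7, 7, 7, 4]
  | _ => [8, 11, 9]

/-- letters of the second stage -/
def l2 (k : ℕ) : Y := ((w2 k).map l1).prod

theorem cd_l2_10 : Cd (l2 10) cB := cd_of_prod (forall₂_map cd_l1 _) (by decide +kernel) (by decide +kernel)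
theorem cd_l2_11 : Cd (l2 11) cJ := cd_of_prod (forall₂_map cd_l1 _) (by decide +kernel) (by decide +kernel)
theorem cd_l2_12 : Cd (l2 12) cK1 := cd_of_prod (forall₂_map cd_l1 _) (by decide +kernel) (by decide +kernel)
theorem cd_l2_13 : Cd (l2 13) cK2 := cd_of_prod (forall₂_map cd_l1 _) (by decide +kernel) (by decide +kernel)
theorem cd_l2_14 : Cd (l2 14) cK3 := cd_of_prod (forall₂_map cd_l1 _) (by decide +kernel) (by decide +kernel)
set_option Elab.async false in
theorem cd_l2_15 : Cd (l2 15) cK4 := cd_of_prod (forall₂_map cd_l1 _) (by decide +kernel) (by (rewrite [Cfsg.Agent.Lib.PackCol.checkEq_col]; decide +kernel))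
theorem cd_l2_18 : Cd (l2 18) cT2 := cd_of_prod (forall₂_map cd_l1 _) (by decide +kernel) (by decide +kernel)

/-- letters -/
def lt : ℕ → Y
  | 0 => s .a
  | 1 => s .b
  | 2 => s .c
  | 3 => s .d
  | 4 => s .e
  | 5 => s .f
  | 6 => s .g
  | 7 => z
  | 8 => ny
  | 9 => ny⁻¹
  | 10 => l2 10
  | 11 => l2 11
  | 12 => l2 12
  | 13 => l2 13
  | 14 => l2 14
  | 15 => l2 15
  | 16 => nt0
  | 17 => nt1
  | _ => l2 18

/-- codes of the letters -/
def cd : ℕ → ℕ
  | 0 => mA
  | 1 => mB
  | 2 => mC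
  | 3 => mD
  | 4 => mE
  | 5 => mF
  | 6 => mG
  | 7 => cZ
  | 8 => cY
  | 9 => cYi
  | 10 => cB
  | 11 => cJ
  | 12 => cK1
  | 13 => cK2
  | 14 => cK3
  | 15 => cK4
  | 16 => cT0
  | 17 => cT1
  | _ => cT2

theorem cd_lt : ∀ k, Cd (lt k) (cd k)
  | 0 => cd_s .a
  | 1 => cd_s .b
  | 2 => cd_s .c
  | 3 => cd_s .d
  | 4 => cd_s .e
  | 5 => cd_s .f
  | 6 => cd_s .g
  | 7 => cd_base 7
  | 8 => cd_ny
  | 9 => cd_nyi
  | 10 => cd_l2_10
  | 11 => cd_l2_11
  | 12 => cd_l2_12
  | 13 => cd_l2_13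
  | 14 => cd_l2_14
  | 15 => cd_l2_15
  | 16 => cd_nt0
  | 17 => cd_nt1
  | _ + 18 => cd_l2_18

/-- words -/
def V (w : List ℕ) : Y := (w.map lt).prod

theorem V_nil : V [] = 1 := rfl
theorem V_cons (k : ℕ) (w : List ℕ) : V (k :: w) = lt k * V w := by
  unfold V; rw [List.map_cons, List.prod_cons]
theorem V_append (u v : List ℕ) : V (u ++ v) = V u * V v := by
  unfold V; rw [List.map_append, List.prod_append]
theorem V_one (k : ℕ) : V [k] = lt k := by rw [V_cons, V_nil, mul_one]

/-- equality test -/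
noncomputable def eqV (u v : List ℕ) : Bool := checkEq C12 (u.map cd) (v.map cd) 0 12

theorem V_eq {u v : List ℕ} (h : eqV u v = true) : V u = V v :=
  prod_eq_of_cd (forall₂_map cd_lt u) (forall₂_map cd_lt v) h

/-- coset representatives -/
def rep : ℕ → List ℕ
  | 0 => [6]
  | 1 => []
  | 2 => [8, 6]
  | 3 => [8, 8, 6]
  | 4 => [8, 8, 8, 8, 6]
  | _ => [8, 8, 8, 6]

/-- transitions -/
def tab : ℕ → List (ℕ × List ℕ)
  | 6 => [(1, []), (0, []), (3, [17, 18, 17, 16, 16, 0, 2, 10, 7, 7, 7, 7]), (2, [18, 9, 16, 16, 5, 7, 7, 7, 7]), (4,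
    [9, 18, 17, 16, 16, 0, 5, 7]), (5, [8, 17, 16, 0, 2, 5, 7, 7])]
  | 8 => [(2, []), (1, [8]), (3, []), (5, []), (0, []), (4, [])]
  | 0 => [(0, [0]), (1, [0]), (2, [0, 2, 5, 10]), (3, [0, 2, 7, 7, 7]), (4, [2, 10]), (5, [0, 2, 5, 7, 7, 7])]
  | 2 => [(0, [2]), (1, [2]), (2, [10]), (3, [0, 10]), (4, [0, 5, 7, 7, 7]), (5, [2, 5])]
  | 5 => [(0, [0, 5, 7, 7, 7]), (1, [5]), (2, [2]), (3, [10]), (4, [2, 5]), (5, [0, 10])]
  | 4 => [(0, [4]), (1, [4]), (2, [4, 15, 2, 7, 7, 7]), (3, [4, 11, 12, 15, 0]), (4, [4, 11, 14, 15, 0]), (5, [11, 13,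
    15, 0, 2, 7, 7, 7])]
  | 16 => [(0, [16]), (1, [16]), (2, [16]), (3, [16]), (4, [16]), (5, [16])]
  | _ => [(0, [17, 17, 16, 16, 0, 5, 10, 7]), (1, [17]), (4, [17, 16, 16, 2, 5, 10, 7, 7, 7, 7]), (2, [9, 17, 8, 8]),
    (3, [8, 8, 18, 17, 16, 16, 0, 5, 10, 7]), (5, [18, 17, 8, 18, 16, 5, 10, 7, 7, 7, 7, 7])]

/-- letters fixing the block -/
def st (k : ℕ) : Bool := Nat.beq k 0 || Nat.beq k 2 || Nat.beq k 4 || Nat.beq k 5 || (Nat.ble 7 k && Nat.ble k 18)

/-- transitions of the letter `k` -/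
noncomputable def chkM (k : ℕ) : Bool :=
  (List.range 6).all fun x => eqV (k :: rep x) (rep ((tab k).getD x (0, [])).1 ++ ((tab k).getD x (0, [])).2) &&
    ((tab k).getD x (0, [])).2.all st && Nat.blt ((tab k).getD x (0, [])).1 6

theorem chk6 : chkM 6 = true := by decide +kernel
theorem chk8 : chkM 8 = true := by decide +kernel
theorem chk0 : chkM 0 = true := by decide +kernel
theorem chk2 : chkM 2 = true := by decide +kernel
theorem chk5 : chkM 5 = true := by decide +kernel
theorem chk4 : chkM 4 = true := by decide +kernel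
theorem chk16 : chkM 16 = true := by decide +kernel
theorem chk17 : chkM 17 = true := by decide +kernel

end Cfsg.Agent.H878.Sz.N
end

-- part: H878/Sz/NGlue
section
/-!
# Blocks of weight vectors, commuting involutions (helper878)
-/

set_option autoImplicit false

namespace Cfsg.Agent.H878.Sz.N

open Module Cfsg.Agent.H878.Sz

variable {K : Type*} [Field K] {V : Type*} [AddCommGroup V] [Module K V]

/-- A sum of vectors with different weights is zero only if all are zero. -/
theorem eq_zero_of_sum_wt {r κ : Type*} (f : r → Module.End K V) (χ : κ → r → K) (hχ : Function.Injective χ)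
    (s : Finset κ) : ∀ (w : κ → V) (_ : ∀ x i, f i (w x) = χ x i • w x) (_ : ∑ x ∈ s, w x = 0), ∀ x ∈ s, w x = 0 := by
  classical
  induction s using Finset.induction_on with
  | empty => intro w _ _ x hx; simp at hx
  | insert x₀ s hx₀ ih =>
    intro w hf hg
    have hs : ∀ x ∈ s, w x = 0 := by
      intro x hx
      have hne : χ x ≠ χ x₀ := fun e => hx₀ (hχ e ▸ hx)
      obtain ⟨i, hi⟩ := Function.ne_iff.1 hne
      have h1 := congrArg (f i) hg
      rw [map_sum, map_zero] at h1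
      have h2 : ∑ y ∈ s, (χ y i - χ x₀ i) • w y = 0 := by
        have h3 : ∑ y ∈ insert x₀ s, (χ y i - χ x₀ i) • w y = 0 := by
          have e : ∀ y ∈ insert x₀ s, (χ y i - χ x₀ i) • w y = f i (w y) - χ x₀ i • w y := by
            intro y _
            rw [hf, sub_smul]
          rw [Finset.sum_congr rfl e, Finset.sum_sub_distrib, h1, ← Finset.smul_sum, hg, smul_zero, sub_zero]
        rw [Finset.sum_insert hx₀, sub_self, zero_smul, zero_add] at h3
        exact h3
      have h4 := ih (fun y => (χ y i - χ x₀ i) • w y) (fun y j => by rw [map_smul, hf, smul_comm]) h2 x hx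
      rcases smul_eq_zero.1 h4 with h5 | h5
      · exact absurd (sub_eq_zero.1 h5) hi
      · exact h5
    intro x hx
    rcases Finset.mem_insert.1 hx with rfl | hx
    · rw [Finset.sum_insert hx₀, Finset.sum_eq_zero hs, add_zero] at hg
      exact hg
    · exact hs x hx

/-- Blocks of linearly independent vectors with different weights. -/
theorem linInd_blocks {r κ : Type*} (f : r → Module.End K V) (χ : κ → r → K)
    (hχ : Function.Injective χ) (v : κ → Fin 2 → V) (hv : ∀ x, LinearIndependent K (v x))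
    (hf : ∀ x a i, f i (v x a) = χ x i • v x a) : LinearIndependent K (fun p : κ × Fin 2 => v p.1 p.2) := by
  classical
  rw [linearIndependent_iff']
  intro s g hg
  -- extend by zero to a product
  set! g' : κ × Fin 2 → K := fun p => if p ∈ s then g p else 0 with hg'
  set! S : Finset κ := s.image Prod.fst with hS
  have h1 : ∑ x ∈ S, ∑ a : Fin 2, g' (x, a) • v x a = 0 := by
    rw [← Finset.sum_product']
    have h2 : s ⊆ S ×ˢ (Finset.univ : Finset (Fin 2)) := by
      intro p hp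
      exact Finset.mem_product.2 ⟨Finset.mem_image_of_mem _ hp, Finset.mem_univ _⟩
    rw [← Finset.sum_subset h2 (f := fun p => g' (p.1, p.2) • v p.1 p.2)]
    · rw [← hg]
      refine Finset.sum_congr rfl fun p hp => ?_
      have : g' (p.1, p.2) = g p := by rw [hg']; simp only [Prod.mk.eta]; rw [if_pos hp]
      rw [this]
    · intro p _ hp
      have : g' (p.1, p.2) = 0 := by rw [hg']; simp only [Prod.mk.eta]; rw [if_neg hp]
      rw [this, zero_smul]
  have h3 := eq_zero_of_sum_wt f χ hχ S (fun x => ∑ a : Fin 2, g' (x, a) • v x a) (fun x i => by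
    rw [map_sum, Finset.smul_sum]
    refine Finset.sum_congr rfl fun a _ => ?_
    rw [map_smul, hf, smul_comm]) h1
  intro p hp
  have h4 := h3 p.1 (Finset.mem_image_of_mem _ hp)
  have h5 := (Fintype.linearIndependent_iff.1 (hv p.1)) (fun a => g' (p.1, a)) h4 p.2
  have : g' (p.1, p.2) = g p := by rw [hg']; simp only [Prod.mk.eta]; rw [if_pos hp]
  rw [← this]
  exact h5

/-- A vector with the weight of a block is in the span of the block. -/
theorem of_wt_blocks {r κ : Type*} (f : r → Module.End K V) (χ : κ → r → K) (hχ : Function.Injective χ)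
    (b : Basis (κ × Fin 2) K V) (hf : ∀ x a i, f i (b (x, a)) = χ x i • b (x, a)) {x₀ : κ} {u : V}
    (hu : ∀ i, f i u = χ x₀ i • u) : ∃ c₀ c₁ : K, u = c₀ • b (x₀, 0) + c₁ • b (x₀, 1) := by
  classical
  refine ⟨b.repr u (x₀, 0), b.repr u (x₀, 1), ?_⟩
  have key : ∀ y a, y ≠ x₀ → b.repr u (y, a) = 0 := by
    intro y a hy
    have hne : χ y ≠ χ x₀ := fun e => hy (hχ e)
    obtain ⟨i, hi⟩ := Function.ne_iff.1 hne
    have h1 : ∀ w : V, b.repr (f i w) (y, a) = χ y i * b.repr w (y, a) := by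
      have h2 : (b.coord (y, a)) ∘ₗ (f i) = χ y i • b.coord (y, a) := by
        apply b.ext
        rintro ⟨x, c⟩
        rw [LinearMap.comp_apply, hf, map_smul, LinearMap.smul_apply, Basis.coord_apply, b.repr_self]
        by_cases e : (x, c) = (y, a)
        · have := congrArg Prod.fst e
          simp only at this
          rw [e, this]
        · rw [Finsupp.single_eq_of_ne (Ne.symm e), smul_zero, smul_zero]
      intro w
      have h3 := LinearMap.congr_fun h2 w
      rw [LinearMap.comp_apply, LinearMap.smul_apply, Basis.coord_apply, Basis.coord_apply, smul_eq_mul] at h3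
      exact h3
    have h4 := h1 u
    rw [hu, map_smul, Finsupp.smul_apply, smul_eq_mul] at h4
    have h5 : (χ x₀ i - χ y i) * b.repr u (y, a) = 0 := by rw [sub_mul, h4, sub_self]
    rcases mul_eq_zero.1 h5 with h6 | h6
    · exact absurd (sub_eq_zero.1 h6).symm hi
    · exact h6
  apply b.repr.injective
  ext ⟨y, a⟩
  rw [map_add, map_smul, map_smul, b.repr_self, b.repr_self, Finsupp.add_apply, Finsupp.smul_apply,
    Finsupp.smul_apply, smul_eq_mul, smul_eq_mul]
  by_cases e : y = x₀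
  · subst e
    fin_cases a
    · simp
    · simp
  · rw [key y a e, Finsupp.single_eq_of_ne (fun h => e (congrArg Prod.fst h)),
      Finsupp.single_eq_of_ne (fun h => e (congrArg Prod.fst h)), mul_zero, mul_zero, add_zero]

/-- **Common eigenvectors of commuting involutions.** -/
theorem exists_sgn (h2 : (2 : K) ≠ 0) : ∀ (l : List (Module.End K V))
    (_ : ∀ f ∈ l, ∀ g ∈ l, ∀ v, f (g v) = g (f v)) (_ : ∀ f ∈ l, ∀ v, f (f v) = v) (U : Submodule K V)
    (_ : ∀ f ∈ l, ∀ u ∈ U, f u ∈ U) (_ : U ≠ ⊥),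
    ∃ v ∈ U, v ≠ 0 ∧ ∀ f ∈ l, ∃ j < 2, f v = (-1 : K) ^ j • v := by
  intro l
  induction l with
  | nil =>
    intro _ _ U _ hne
    obtain ⟨v, hv, hv0⟩ := (Submodule.ne_bot_iff U).1 hne
    exact ⟨v, hv, hv0, by simp only [_root_.List.not_mem_nil, _root_.Order.lt_two_iff, _root_.IsEmpty.forall_iff, _root_.implies_true]⟩
  | cons f l ih =>
    intro hc h1 U hU hne
    obtain ⟨u, hu, hu0⟩ := (Submodule.ne_bot_iff U).1 hne
    have hf := h1 f List.mem_cons_self
    obtain ⟨j, hj, w, hw, hw0, hfw⟩ : ∃ j < 2, ∃ w ∈ U, w ≠ 0 ∧ f w = (-1 : K) ^ j • w := by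
      have hfu : f u ∈ U := hU f List.mem_cons_self u hu
      by_cases c0 : u + f u = 0
      · refine ⟨1, by norm_num, u - f u, sub_mem hu hfu, ?_, ?_⟩
        · intro c1
          apply hu0
          have e : (2 : K) • u = 0 := by
            have e1 : (2 : K) • u = (u + f u) + (u - f u) := by module
            rw [e1, c0, c1, add_zero]
          rcases smul_eq_zero.1 e with e | e
          · exact absurd e h2
          · exact e
        · rw [map_sub, hf, pow_one]; module
      · exact ⟨0, by norm_num, u + f u, add_mem hu hfu, c0, by rw [map_add, hf, pow_zero, one_smul, add_comm]⟩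
    obtain ⟨v, hv, hv0, hv1⟩ := ih (fun a ha b hb => hc a (List.mem_cons_of_mem _ ha) b (List.mem_cons_of_mem _ hb))
      (fun a ha => h1 a (List.mem_cons_of_mem _ ha)) (U ⊓ LinearMap.ker (f - ((-1 : K) ^ j) • (1 : Module.End K V))) (by
        rintro g hg x ⟨hx1, hx2⟩
        refine ⟨hU g (List.mem_cons_of_mem _ hg) x hx1, ?_⟩
        rw [SetLike.mem_coe, LinearMap.mem_ker, LinearMap.sub_apply, LinearMap.smul_apply, Module.End.one_apply,
          sub_eq_zero] at hx2 ⊢
        rw [hc f List.mem_cons_self g (List.mem_cons_of_mem _ hg), hx2, map_smul]) (by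
        rw [Submodule.ne_bot_iff]
        refine ⟨w, ⟨hw, ?_⟩, hw0⟩
        rw [SetLike.mem_coe, LinearMap.mem_ker, LinearMap.sub_apply, LinearMap.smul_apply, Module.End.one_apply,
          hfw, sub_self])
    refine ⟨v, hv.1, hv0, ?_⟩
    intro g hg
    rcases List.mem_cons.1 hg with rfl | hg
    · refine ⟨j, hj, ?_⟩
      have h2 := hv.2
      rw [SetLike.mem_coe, LinearMap.mem_ker, LinearMap.sub_apply, LinearMap.smul_apply, Module.End.one_apply,
        sub_eq_zero] at h2
      exact h2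
    · exact hv1 g hg

end Cfsg.Agent.H878.Sz.N
end

-- part: H878/Sz/NWt
section
/-!
# Weights of `2^5 ≤ 6.2^(4+6):3A₆ ≤ 6.Suz` (helper878)

The weights are subsets of the six blocks (bitmasks `n < 64`) up to complement.
-/

set_option autoImplicit false
set_option maxRecDepth 100000
set_option linter.unusedSimpArgs false

namespace Cfsg.Agent.H878.Sz.N

open Cfsg Cfsg.Spor Cfsg.Agent.H58.SuzRep Module Cfsg.Agent.H878.Sz

/-- a bit -/
def bit (i n : ℕ) : ℕ := n / 2 ^ i % 2

/-- exponent of the letter `k` on the weight `n` -/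
def E : ℕ → ℕ → ℕ
  | 0, n => bit 4 n + bit 5 n
  | 2, n => bit 0 n + bit 1 n
  | 5, n => bit 1 n + bit 2 n
  | 10, n => bit 0 n + bit 4 n
  | _, n => bit 0 n + bit 1 n + bit 2 n + bit 3 n + bit 4 n + bit 5 n

/-- action of the letter 8 (otherwise of the letter 6) on weights -/
def A (k n : ℕ) : ℕ := if k = 8 then
    bit 0 n * 4 + bit 1 n * 2 + bit 2 n * 8 + bit 3 n * 32 + bit 4 n * 1 + bit 5 n * 16
  else bit 0 n * 2 + bit 1 n * 1 + bit 2 n * 8 + bit 3 n * 4 + bit 4 n * 16 + bit 5 n * 32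

/-- action of words -/
def actW (w : List ℕ) (n : ℕ) : ℕ := w.foldr A n

/-- the letters of `B` -/
def ks : List ℕ := [0, 2, 5, 10, 7]

/-- in `ks` -/
def stB (k : ℕ) : Bool := Nat.beq k 0 || Nat.beq k 2 || Nat.beq k 5 || Nat.beq k 10 || Nat.beq k 7

/-- the words `m⁻¹ k m` -/
def sW : ℕ → ℕ → List ℕ
  | 8, 0 => [5, 10, 7, 7, 7]
  | 8, 2 => [2, 10]
  | 8, 5 => [2]
  | 8, 10 => [0]
  | 6, 5 => [0, 5, 7, 7, 7]
  | 6, 10 => [2, 10]
  | 17, 0 => [0, 2, 5, 10]
  | 17, 5 => [0, 2, 5, 7, 7, 7]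
  | 17, 10 => [2, 5]
  | 18, 0 => [10]
  | 18, 2 => [0, 2, 5, 7, 7, 7]
  | 18, 10 => [0, 5, 10, 7, 7, 7]
  | _, k => [k]

/-- the relations of the letter `m` -/
noncomputable def chkS (m : ℕ) : Bool := ks.all fun k => eqV [k, m] (m :: sW m k) && (sW m k).all stB

/-- sum of the exponents -/
def sumE (s : List ℕ) (n : ℕ) : ℕ := (s.map fun k => E k n).sum

/-- the letter `m` maps the weight `n` to `n'` -/
def pE (m n n' : ℕ) : Bool := ks.all fun k => Nat.beq (sumE (sW m k) n % 2) (E k n' % 2)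

theorem chkS8 : chkS 8 = true := by decide +kernel
theorem chkS6 : chkS 6 = true := by decide +kernel
theorem chkS4 : chkS 4 = true := by decide +kernel
theorem chkS11 : chkS 11 = true := by decide +kernel

theorem pE_A : ∀ n < 64, pE 8 n (A 8 n) = true ∧ pE 6 n (A 6 n) = true := by decide +kernel
theorem pE_id : ∀ n < 64, pE 4 n n = true ∧ pE 11 n n = true := by decide +kernel
theorem A_lt : ∀ n < 64, A 8 n < 64 ∧ A 6 n < 64 := by decide +kernel

/-- equal weights -/
def eqE (n n' : ℕ) : Bool := ks.all fun k => Nat.beq (E k n % 2) (E k n' % 2)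

/-- words to the base points -/
def tb : List (List ℕ) := [[], [6], [], [], [6, 8, 8, 8, 8], [8, 8, 8, 6], [8, 8, 8, 8], [], [6, 8, 8, 8],
  [8, 8, 8, 8, 6], [8, 8, 8], [6], [8, 6, 8, 8, 8], [8, 8], [8, 8, 6], [8, 6, 8], [6, 8], [8, 6], [8], [8],
  [8, 8, 6, 8, 6], [8, 8, 8], [6, 8], [8, 6, 8, 8], [8, 8, 6, 8], [6, 8, 6], [6, 8, 8, 8], [8, 8, 6, 8, 8],
  [6, 8, 8], [8, 8], [8, 8, 6], [6, 8, 8], [6, 8, 8], [8, 8, 6], [8, 8], [6, 8, 8], [8, 8, 6, 8, 8], [6, 8, 8, 8],
  [6, 8, 6], [8, 8, 6, 8], [8, 6, 8, 8], [6, 8], [8, 8, 8], [8, 8, 6, 8, 6], [8], [8], [8, 6], [6, 8], [8, 6, 8],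
  [8, 8, 6], [8, 8], [8, 6, 8, 8, 8], [6], [8, 8, 8], [8, 8, 8, 8, 6], [6, 8, 8, 8], [], [8, 8, 8, 8], [8, 8, 8, 6],
  [6, 8, 8, 8, 8], [], [], [6], []]

/-- words in the letters 6, 8 -/
def st68 (k : ℕ) : Bool := Nat.beq k 8 || Nat.beq k 6

theorem tb_chk : ∀ n < 64, E 0 n % 2 = 1 → (tb.getD n []).all st68 = true ∧
    (eqE (actW (tb.getD n []) n) 3 = true ∨ eqE (actW (tb.getD n []) n) 7 = true ∨
      eqE (actW (tb.getD n []) n) 2 = true) := by decide +kernel

/-- words for the weights of type 2 -/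
def w15 : List (List ℕ) := [[], [8], [8, 8], [6, 8], [8, 8, 8], [6, 8, 8], [8, 6, 8], [8, 8, 8, 8], [6, 8, 8, 8],
  [8, 6, 8, 8], [8, 8, 6, 8], [6, 8, 6, 8], [6, 8, 8, 8, 8], [8, 6, 8, 8, 8], [8, 6, 8, 6, 8]]
/-- words for the weights of type 3 -/
def w10 : List (List ℕ) := [[], [8], [6], [8, 8], [6, 8], [8, 6], [6, 8, 8], [8, 6, 8], [6, 8, 6], [8, 6, 8, 8]]

/-- the list of weights -/
def wts (n : ℕ) (L : List (List ℕ)) : List ℕ := L.map fun w => actW w n

/-- pairwise different weights -/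
def dist (L : List ℕ) : Bool := (List.range L.length).all fun x => (List.range L.length).all fun x' =>
  Nat.beq x x' || ks.any fun k => !(Nat.beq (E k (L.getD x 0) % 2) (E k (L.getD x' 0) % 2))

theorem dist15 : dist (wts 3 w15) = true := by decide +kernel
theorem dist10 : dist (wts 7 w10) = true := by decide +kernel
theorem dist6 : dist (wts 2 ((List.range 6).map rep)) = true := by decide +kernel
theorem w15_st : w15.all (fun w => w.all st68) = true := by decide +kernel
theorem w10_st : w10.all (fun w => w.all st68) = true := by decide +kernel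
theorem rep_st : ((List.range 6).map rep).all (fun w => w.all st68) = true := by decide +kernel

theorem exN_chk : ((List.range 32).all fun t => (List.range 64).any fun n => Nat.beq (E 0 n % 2) (t % 2) &&
    Nat.beq (E 2 n % 2) (t / 2 % 2) && Nat.beq (E 5 n % 2) (t / 4 % 2) && Nat.beq (E 10 n % 2) (t / 8 % 2) &&
    Nat.beq (E 7 n % 2) (t / 16 % 2)) = true := by decide +kernel

theorem exists_n {a b c d e : ℕ} (ha : a < 2) (hb : b < 2) (hc : c < 2) (hd : d < 2) (he : e < 2) :
    ∃ n < 64, E 0 n % 2 = a ∧ E 2 n % 2 = b ∧ E 5 n % 2 = c ∧ E 10 n % 2 = d ∧ E 7 n % 2 = e := by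
  obtain ⟨n, hn, h⟩ := List.any_eq_true.1 (List.all_eq_true.1 exN_chk (a + 2 * b + 4 * c + 8 * d + 16 * e)
    (List.mem_range.2 (by omega)))
  simp only [Bool.and_eq_true] at h
  obtain ⟨⟨⟨⟨h0, h1⟩, h2⟩, h3⟩, h4⟩ := h
  have h0 := Nat.eq_of_beq_eq_true h0
  have h1 := Nat.eq_of_beq_eq_true h1
  have h2 := Nat.eq_of_beq_eq_true h2
  have h3 := Nat.eq_of_beq_eq_true h3
  have h4 := Nat.eq_of_beq_eq_true h4
  refine ⟨n, List.mem_range.1 hn, ?_, ?_, ?_, ?_, ?_⟩ <;> (clear * - ha h0 hb h1 hc h2 hd h3 he h4; omega)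

section

variable {K : Type*} [Field K] {M : Type*} [AddCommGroup M] [Module K M] {ρ : Representation K Y M} {ζ : K}

theorem apply_V_nil (v : M) : ρ (V []) v = v := by rw [V_nil, map_one, Module.End.one_apply]
theorem apply_V_cons (k : ℕ) (w : List ℕ) (v : M) : ρ (V (k :: w)) v = ρ (lt k) (ρ (V w) v) := by
  rw [V_cons, map_mul, Module.End.mul_apply]
theorem apply_V_append (u w : List ℕ) (v : M) : ρ (V (u ++ w)) v = ρ (V u) (ρ (V w) v) := by
  rw [V_append, map_mul, Module.End.mul_apply]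
theorem apply_V_one (k : ℕ) (v : M) : ρ (V [k]) v = ρ (lt k) v := by rw [V_one]
theorem apply_eqV {u w : List ℕ} (h : eqV u w = true) (v : M) : ρ (V u) v = ρ (V w) v := by rw [V_eq h]

theorem apply_ne {g : Y} {v : M} (hv : v ≠ 0) : ρ g v ≠ 0 := by
  intro h
  apply hv
  have h1 : ρ g⁻¹ (ρ g v) = v := by
    rw [← Module.End.mul_apply, ← map_mul, inv_mul_cancel, map_one, Module.End.one_apply]
  rw [← h1, h, map_zero]

/-- `v` has the weight `n` -/
def IsW (ρ : Representation K Y M) (v : M) (n : ℕ) : Prop := ∀ k ∈ ks, ρ (lt k) v = (-1 : K) ^ E k n • v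

theorem neg_one_pow_mod {a b : ℕ} (h : a % 2 = b % 2) : (-1 : K) ^ a = (-1) ^ b := by
  rw [neg_one_pow_eq_pow_mod_two, h, ← neg_one_pow_eq_pow_mod_two]

theorem stB_mem {k : ℕ} (h : stB k = true) : k ∈ ks := by
  unfold stB at h
  simp only [Bool.or_eq_true] at h
  rcases h with (((h | h) | h) | h) | h <;> (have := Nat.eq_of_beq_eq_true h; subst this; decide)

theorem apply_B {v : M} {n : ℕ} (h : IsW ρ v n) : ∀ {s : List ℕ}, s.all stB = true →
    ρ (V s) v = (-1 : K) ^ sumE s n • v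
  | [], _ => by rw [apply_V_nil]; simp [sumE]
  | k :: s, hs => by
    rw [List.all_cons, Bool.and_eq_true] at hs
    rw [apply_V_cons, apply_B h hs.2, map_smul, h k (stB_mem hs.1), smul_smul, ← pow_add]
    congr 2
    simp only [sumE, List.map_cons, List.sum_cons]
    exact add_comm _ _

theorem isW_step {v : M} {m n n' : ℕ} (hm : chkS m = true) (hp : pE m n n' = true) (h : IsW ρ v n) :
    IsW ρ (ρ (lt m) v) n' := by
  intro k hk
  have h1 := List.all_eq_true.1 hm k hk
  rw [Bool.and_eq_true] at h1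
  have h2 := Nat.eq_of_beq_eq_true (List.all_eq_true.1 hp k hk)
  have h3 := apply_eqV (ρ := ρ) h1.1 v
  rw [apply_V_cons, apply_V_one, apply_V_cons, apply_B h h1.2, map_smul] at h3
  rw [h3, neg_one_pow_mod h2]

theorem isW_congr {v : M} {n n' : ℕ} (he : eqE n n' = true) (h : IsW ρ v n) : IsW ρ v n' := by
  intro k hk
  have h2 := Nat.eq_of_beq_eq_true (List.all_eq_true.1 he k hk)
  rw [h k hk, neg_one_pow_mod h2]

theorem isW_A {v : M} {k n : ℕ} (hk : st68 k = true) (hn : n < 64) (h : IsW ρ v n) :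
    IsW ρ (ρ (lt k) v) (A k n) ∧ A k n < 64 := by
  unfold st68 at hk
  rw [Bool.or_eq_true] at hk
  rcases hk with hk | hk <;> (have := Nat.eq_of_beq_eq_true hk; subst this)
  · exact ⟨isW_step chkS8 (pE_A n hn).1 h, (A_lt n hn).1⟩
  · exact ⟨isW_step chkS6 (pE_A n hn).2 h, (A_lt n hn).2⟩

theorem isW_actW {v : M} {n : ℕ} (hn : n < 64) (h : IsW ρ v n) : ∀ {w : List ℕ}, w.all st68 = true →
    IsW ρ (ρ (V w) v) (actW w n) ∧ actW w n < 64
  | [], _ => by rw [apply_V_nil]; exact ⟨h, hn⟩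
  | k :: w, hw => by
    rw [List.all_cons, Bool.and_eq_true] at hw
    obtain ⟨h1, h2⟩ := isW_actW hn h hw.2
    rw [apply_V_cons]
    exact isW_A hw.1 h2 h1

theorem pow_inj (h2 : (2 : K) ≠ 0) {a b : ℕ} (h : (-1 : K) ^ a = (-1) ^ b) : a % 2 = b % 2 := by
  have hne : (-1 : K) ≠ 1 := by
    intro e
    apply h2
    have : (2 : K) = 1 - -1 := by norm_num
    rw [this, e, sub_self]
  rw [neg_one_pow_eq_pow_mod_two (n := a), neg_one_pow_eq_pow_mod_two (n := b)] at h
  rcases Nat.mod_two_eq_zero_or_one a with ha | ha <;> rcases Nat.mod_two_eq_zero_or_one b with hb | hb <;>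
    rw [ha, hb] at h ⊢
  · rw [pow_zero, pow_one] at h; exact absurd h.symm hne
  · rw [pow_zero, pow_one] at h; exact absurd h hne

theorem chi_inj (h2 : (2 : K) ≠ 0) {L : List ℕ} (hL : dist L = true) :
    Function.Injective fun (x : Fin L.length) (i : Fin 5) => (-1 : K) ^ E (ks.getD i 0) (L.getD x 0) := by
  intro x x' h
  have h1 := List.all_eq_true.1 (List.all_eq_true.1 hL x (List.mem_range.2 x.2)) x' (List.mem_range.2 x'.2)
  rw [Bool.or_eq_true] at h1
  rcases h1 with h1 | h1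
  · exact Fin.ext (Nat.eq_of_beq_eq_true h1)
  · exfalso
    obtain ⟨k, hk, h3⟩ := List.any_eq_true.1 h1
    obtain ⟨i, hi, rfl⟩ := List.mem_iff_getElem.1 hk
    have h4 := pow_inj h2 (congrFun h ⟨i, hi⟩)
    have e : ks.getD i 0 = ks[i] := by rw [List.getD_eq_getElem?_getD, List.getElem?_eq_getElem hi, Option.getD_some]
    simp only [e] at h4
    rw [h4] at h3
    simp at h3

theorem ks_mem (i : Fin 5) : ks.getD i 0 ∈ ks := by fin_cases i <;> decide

end

end Cfsg.Agent.H878.Sz.N
end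

-- part: H878/Sz/NFrame
section
/-!
# Representations of `6.Suz` of degree at most 12 in characteristic 3: the frame (helper878)
-/

set_option autoImplicit false
set_option maxRecDepth 100000
set_option linter.unusedSimpArgs false

namespace Cfsg.Agent.H878.Sz.N

open Cfsg Cfsg.Spor Cfsg.Agent.H58.SuzRep Module Cfsg.Agent.H878.Sz

variable {K : Type*} [Field K] {M : Type*} [AddCommGroup M] [Module K M] {ρ : Representation K Y M} {ζ i : K}

theorem wts_getD {n : ℕ} {L : List (List ℕ)} {x : ℕ} (hx : x < L.length) :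
    (wts n L).getD x 0 = actW (L.getD x []) n := by
  simp [wts, List.getD_eq_getElem?_getD, List.getElem?_map, List.getElem?_eq_getElem hx]

theorem getD_all {L : List (List ℕ)} (hL : L.all (fun w => w.all st68) = true) {x : ℕ} (hx : x < L.length) :
    (L.getD x []).all st68 = true := by
  have h1 : L.getD x [] = L[x] := by
    rw [List.getD_eq_getElem?_getD, List.getElem?_eq_getElem hx, Option.getD_some]
  rw [h1]
  exact List.all_eq_true.1 hL _ (List.getElem_mem hx)

theorem isW_getD {n : ℕ} {L : List (List ℕ)} (hL : L.all (fun w => w.all st68) = true) (hn : n < 64) {v : M}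
    (h : IsW ρ v n) (x : Fin (wts n L).length) (j : Fin 5) :
    ρ (lt (ks.getD j 0)) (ρ (V (L.getD x [])) v) = (-1 : K) ^ E (ks.getD j 0) ((wts n L).getD x 0) •
      ρ (V (L.getD x [])) v := by
  have hx : (x : ℕ) < L.length := lt_of_lt_of_eq x.2 (List.length_map _)
  rw [wts_getD hx]
  exact (isW_actW hn h (getD_all hL hx)).1 _ (ks_mem j)

theorem linInd_wts (h2 : (2 : K) ≠ 0) {n : ℕ} {L : List (List ℕ)} (hL : L.all (fun w => w.all st68) = true)
    (hd : dist (wts n L) = true) (hn : n < 64) {v : M} (hv : v ≠ 0) (h : IsW ρ v n) :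
    LinearIndependent K fun x : Fin (wts n L).length => ρ (V (L.getD x [])) v :=
  linInd_of_wt (fun j : Fin 5 => ρ (lt (ks.getD j 0)))
    (fun (x : Fin (wts n L).length) (j : Fin 5) => (-1 : K) ^ E (ks.getD j 0) ((wts n L).getD x 0)) (chi_inj h2 hd) _
    (fun _ => apply_ne hv) (fun x j => isW_getD hL hn h x j)

theorem not_wt_three [FiniteDimensional K M] (hdim : finrank K M ≤ 12) (h2 : (2 : K) ≠ 0) {v : M} (hv : v ≠ 0)
    (h : IsW ρ v 3) : False := by
  have h1 := (linInd_wts h2 w15_st dist15 (by norm_num) hv h).fintype_card_le_finrank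
  rw [Fintype.card_fin] at h1
  have h3 : (wts 3 w15).length = 15 := by decide
  omega

/-! ### the quaternion group -/

theorem e_sq : eqV [4, 4] [7, 7, 7] = true := by decide +kernel
theorem j_sq : eqV [11, 11] [7, 7, 7] = true := by decide +kernel
theorem e_j : eqV [4, 11] [11, 4, 7, 7, 7] = true := by decide +kernel

theorem z3 (hz : ∀ w, ρ (lt 7) w = -w) (v : M) : ρ (V [7, 7, 7]) v = -v := by
  rw [apply_V_cons, apply_V_cons, apply_V_one, hz, hz, hz, neg_neg]

theorem e_e (hz : ∀ w, ρ (lt 7) w = -w) (v : M) : ρ (lt 4) (ρ (lt 4) v) = -v := by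
  have h := apply_eqV (ρ := ρ) e_sq v
  rw [apply_V_cons, apply_V_one, z3 hz] at h
  exact h

theorem j_j (hz : ∀ w, ρ (lt 7) w = -w) (v : M) : ρ (lt 11) (ρ (lt 11) v) = -v := by
  have h := apply_eqV (ρ := ρ) j_sq v
  rw [apply_V_cons, apply_V_one, z3 hz] at h
  exact h

theorem e_j' (hz : ∀ w, ρ (lt 7) w = -w) (v : M) : ρ (lt 4) (ρ (lt 11) v) = -ρ (lt 11) (ρ (lt 4) v) := by
  have h := apply_eqV (ρ := ρ) e_j v
  rw [apply_V_cons, apply_V_one, apply_V_cons, apply_V_cons, z3 hz, map_neg, map_neg] at h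
  exact h

theorem exists_eig (hi : i ^ 2 = -1) (hz : ∀ w, ρ (lt 7) w = -w) {n : ℕ} (hn : n < 64) {v : M} (hv : v ≠ 0)
    (h : IsW ρ v n) : ∃ w, w ≠ 0 ∧ IsW ρ w n ∧ ρ (lt 4) w = i • w := by
  have h1 : IsW ρ (ρ (lt 4) v) n := isW_step chkS4 (pE_id n hn).1 h
  by_cases h0 : ρ (lt 4) v + i • v = 0
  · refine ⟨ρ (lt 11) v, apply_ne hv, isW_step chkS11 (pE_id n hn).2 h, ?_⟩
    rw [e_j' hz, eq_neg_of_add_eq_zero_left h0, map_neg, map_smul, neg_neg]
  · refine ⟨ρ (lt 4) v + i • v, h0, ?_, ?_⟩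
    · intro k hk
      rw [map_add, map_smul, h1 k hk, h k hk, smul_add, smul_comm]
    · rw [map_add, map_smul, e_e hz, smul_add, smul_smul, ← pow_two, hi, neg_one_smul, add_comm]

/-- the pair -/
def prV (ρ : Representation K Y M) (u : M) : Fin 2 → M := ![u, ρ (lt 11) u]

theorem prV_linInd (h2 : (2 : K) ≠ 0) (hi : i ^ 2 = -1) (hz : ∀ w, ρ (lt 7) w = -w) {u : M} (hu : u ≠ 0)
    (he : ρ (lt 4) u = i • u) : LinearIndependent K (prV ρ u) := by
  rw [prV, LinearIndependent.pair_iff]
  intro a b hab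
  have hi0 : i ≠ 0 := by rintro rfl; norm_num at hi
  have h1 := congrArg (ρ (lt 4)) hab
  rw [map_add, map_smul, map_smul, e_j' hz, he, map_smul, map_zero] at h1
  have h3 : (2 * i * a) • u = 0 := by
    have : (2 * i * a) • u = (a • i • u + b • -(i • ρ (lt 11) u)) + i • (a • u + b • ρ (lt 11) u) := by module
    rw [this, h1, hab, smul_zero, add_zero]
  have ha : a = 0 := by
    rcases smul_eq_zero.1 h3 with h | h
    · rcases mul_eq_zero.1 h with h | h
      · rcases mul_eq_zero.1 h with h | h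
        · exact absurd h h2
        · exact absurd h hi0
      · exact h
    · exact absurd h hu
  refine ⟨ha, ?_⟩
  rw [ha, zero_smul, zero_add] at hab
  rcases smul_eq_zero.1 hab with h | h
  · exact h
  · exact absurd h (apply_ne hu)

theorem linInd_prV (h2 : (2 : K) ≠ 0) (hi : i ^ 2 = -1) (hz : ∀ w, ρ (lt 7) w = -w) {n : ℕ} {L : List (List ℕ)}
    (hL : L.all (fun w => w.all st68) = true) (hd : dist (wts n L) = true) (hn : n < 64) {v : M} (hv : v ≠ 0)
    (h : IsW ρ v n) (he : ρ (lt 4) v = i • v) :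
    LinearIndependent K fun p : Fin (wts n L).length × Fin 2 => ρ (V (L.getD p.1 [])) (prV ρ v p.2) := by
  refine linInd_blocks (fun j : Fin 5 => ρ (lt (ks.getD j 0)))
    (fun (x : Fin (wts n L).length) (j : Fin 5) => (-1 : K) ^ E (ks.getD j 0) ((wts n L).getD x 0)) (chi_inj h2 hd)
    (fun x a => ρ (V (L.getD x [])) (prV ρ v a)) ?_ ?_
  · intro x
    refine (prV_linInd h2 hi hz hv he).map' (ρ (V (L.getD x []))) ?_
    rw [LinearMap.ker_eq_bot']
    intro m hm
    by_contra h0
    exact apply_ne h0 hm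
  · intro x a j
    refine isW_getD hL hn ?_ x j
    fin_cases a
    · exact h
    · exact isW_step chkS11 (pE_id n hn).2 h

theorem not_wt_seven [FiniteDimensional K M] (hdim : finrank K M ≤ 12) (h2 : (2 : K) ≠ 0) (hi : i ^ 2 = -1)
    (hz : ∀ w, ρ (lt 7) w = -w) {v : M} (hv : v ≠ 0) (h : IsW ρ v 7) : False := by
  obtain ⟨w, hw, hw', he⟩ := exists_eig hi hz (by norm_num) hv h
  have h1 := (linInd_prV h2 hi hz w10_st dist10 (by norm_num) hw hw' he).fintype_card_le_finrank
  rw [Fintype.card_prod, Fintype.card_fin, Fintype.card_fin] at h1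
  have h3 : (wts 7 w10).length = 10 := by decide
  omega

/-- the frame vector -/
structure Fr (ρ : Representation K Y M) (i : K) (u : M) : Prop where
  ne : u ≠ 0
  z : ∀ w, ρ (lt 7) w = -w
  wt : IsW ρ u 2
  e : ρ (lt 4) u = i • u

theorem comm_chk : (ks.all fun k => ks.all fun l => eqV [k, l] [l, k]) = true := by decide +kernel
theorem sq_chk : ([0, 2, 5, 10].all fun k => eqV [k, k] []) = true := by decide +kernel

/-- **The frame.** -/
theorem frame [CharP K 3] [FiniteDimensional K M] (hdim : finrank K M ≤ 12) (hz : ∀ w, ρ z w = ζ • w)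
    (hi : i ^ 2 = -1) (hne : ρ (lt 0) ≠ 1) : finrank K M = 12 ∧ ∃ v, Fr ρ i v := by
  have h2 : (2 : K) ≠ 0 := by
    intro h
    have h3 : (3 : K) = 0 := by exact_mod_cast CharP.cast_eq_zero K 3
    have : (1 : K) = 3 - 2 := by norm_num
    rw [h, h3, sub_zero] at this
    exact one_ne_zero this
  -- `ζ`
  obtain ⟨v0, hv0⟩ : ∃ v, ρ (lt 0) v ≠ v := by
    by_contra h
    push Not at h
    exact hne (LinearMap.ext h)
  have hv00 : v0 ≠ 0 := by rintro rfl; simp at hv0
  have hζ6 : ζ ^ 6 = 1 := by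
    have h1 : ρ (z ^ 6) v0 = ζ ^ 6 • v0 := by
      rw [map_pow]
      simp only [pow_succ, pow_zero, one_mul, Module.End.mul_apply, hz, map_smul, smul_smul]
      congr 1
      ring
    rw [z_pow_six, map_one, Module.End.one_apply] at h1
    have h2 : (1 - ζ ^ 6) • v0 = 0 := by rw [sub_smul, one_smul, ← h1, sub_self]
    rcases smul_eq_zero.1 h2 with h | h
    · exact (sub_eq_zero.1 h).symm
    · exact absurd h hv00
  have hζ2 : ζ ^ 2 = 1 := by
    have h1 : (ζ ^ 2 - 1) ^ 3 = 0 := by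
      have h3 : (3 : K) = 0 := by exact_mod_cast CharP.cast_eq_zero K 3
      have : (ζ ^ 2 - 1) ^ 3 = (ζ ^ 6 - 1) - 3 * (ζ ^ 4 - ζ ^ 2) := by ring
      rw [this, h3, hζ6]; ring
    exact sub_eq_zero.1 (pow_eq_zero_iff (by norm_num) |>.1 h1)
  obtain ⟨e, he2, he⟩ : ∃ e < 2, ζ = (-1 : K) ^ e := by
    have : (ζ - 1) * (ζ + 1) = 0 := by
      have : (ζ - 1) * (ζ + 1) = ζ ^ 2 - 1 := by ring
      rw [this, hζ2, sub_self]
    rcases mul_eq_zero.1 this with h | h
    · exact ⟨0, by norm_num, by rw [pow_zero]; exact sub_eq_zero.1 h⟩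
    · exact ⟨1, by norm_num, by rw [pow_one]; exact eq_neg_of_add_eq_zero_left h⟩
  -- a weight vector
  have comm : ∀ k ∈ ks, ∀ l ∈ ks, ∀ v, ρ (lt k) (ρ (lt l) v) = ρ (lt l) (ρ (lt k) v) := by
    intro k hk l hl v
    have h1 := apply_eqV (ρ := ρ) (List.all_eq_true.1 (List.all_eq_true.1 comm_chk k hk) l hl) v
    rwa [apply_V_cons, apply_V_one, apply_V_cons, apply_V_one] at h1
  have sq : ∀ k ∈ [0, 2, 5, 10], ∀ v, ρ (lt k) (ρ (lt k) v) = v := by
    intro k hk v
    have h1 := apply_eqV (ρ := ρ) (List.all_eq_true.1 sq_chk k hk) v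
    rwa [apply_V_cons, apply_V_one, apply_V_nil] at h1
  have sub : ∀ k ∈ [0, 2, 5, 10], k ∈ ks := by decide
  obtain ⟨v, hvU, hvn, hv⟩ := exists_sgn h2 ([0, 2, 5, 10].map fun k => ρ (lt k))
    (by
      intro f hf g hg v
      obtain ⟨k, hk, rfl⟩ := List.mem_map.1 hf
      obtain ⟨l, hl, rfl⟩ := List.mem_map.1 hg
      exact comm k (sub k hk) l (sub l hl) v)
    (by
      intro f hf v
      obtain ⟨k, hk, rfl⟩ := List.mem_map.1 hf
      exact sq k hk v)
    (LinearMap.range (ρ (lt 0) - 1))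
    (by
      intro f hf u hu
      obtain ⟨k, hk, rfl⟩ := List.mem_map.1 hf
      obtain ⟨w, rfl⟩ := hu
      refine ⟨ρ (lt k) w, ?_⟩
      rw [LinearMap.sub_apply, LinearMap.sub_apply, map_sub, Module.End.one_apply, Module.End.one_apply,
        comm 0 (by decide) k (sub k hk)])
    (by
      intro h
      apply hne
      rw [LinearMap.range_eq_bot, sub_eq_zero] at h
      exact h)
  have hex : ∀ k ∈ [0, 2, 5, 10], ∃ j < 2, ρ (lt k) v = (-1 : K) ^ j • v := fun k hk =>
    hv _ (List.mem_map.2 ⟨k, hk, rfl⟩)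
  obtain ⟨j0, hj0, e0⟩ := hex 0 (by decide)
  obtain ⟨j1, hj1, e1⟩ := hex 2 (by decide)
  obtain ⟨j2, hj2, e2⟩ := hex 5 (by decide)
  obtain ⟨j3, hj3, e3⟩ := hex 10 (by decide)
  have hj01 : j0 = 1 := by
    have : j0 ≠ 0 := by
      rintro rfl
      rw [pow_zero, one_smul] at e0
      obtain ⟨w, hw⟩ := hvU
      rw [LinearMap.sub_apply, Module.End.one_apply] at hw
      have h1 := sq 0 (by decide) w
      have h3 : ρ (lt 0) w = v + w := by rw [← hw]; abel
      rw [h3, map_add, e0, h3] at h1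
      have h4 : (2 : K) • v = 0 := by
        have h5 : (2 : K) • v = (v + (v + w)) - w := by module
        rw [h5, h1, sub_self]
      rcases smul_eq_zero.1 h4 with h | h
      · exact h2 h
      · exact hvn h
    omega
  obtain ⟨n, hn, n0, n1, n2, n3, n4⟩ := exists_n hj0 hj1 hj2 hj3 he2
  have hW : IsW ρ v n := by
    intro k hk
    have key : ∀ {a : ℕ} {b : ℕ}, b % 2 = a → ∀ {x : M}, x = (-1 : K) ^ a • v → x = (-1 : K) ^ b • v := by
      intro a b hab x hx
      rw [neg_one_pow_eq_pow_mod_two, hab]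
      exact hx
    simp only [ks, List.mem_cons, List.not_mem_nil, or_false] at hk
    rcases hk with rfl | rfl | rfl | rfl | rfl
    · exact key n0 e0
    · exact key n1 e1
    · exact key n2 e2
    · exact key n3 e3
    · exact key n4 (by rw [← he]; exact hz v)
  obtain ⟨hst, h3⟩ := tb_chk n hn (by rw [n0, hj01])
  obtain ⟨hw, -⟩ := isW_actW hn hW hst
  set! w := ρ (V (tb.getD n [])) v with hwdef; rewrite [← hwdef] at hw
  have hwn : w ≠ 0 := apply_ne hvn
  have zz : ∀ {m : ℕ}, IsW ρ w m → E 7 m % 2 = 1 → ∀ x, ρ (lt 7) x = -x := by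
    intro m hm hm1 x
    have h1 := hm 7 (by decide)
    have h4 : ρ (lt 7) w = ζ • w := hz w
    rw [h4, neg_one_pow_eq_pow_mod_two, hm1, pow_one] at h1
    have h5 : (ζ - -1) • w = 0 := by rw [sub_smul, h1, sub_self]
    have h6 : ζ = -1 := by
      rcases smul_eq_zero.1 h5 with h | h
      · exact sub_eq_zero.1 h
      · exact absurd h hwn
    have h7 : ρ (lt 7) x = ζ • x := hz x
    rw [h7, h6, neg_one_smul]
  rcases h3 with h3 | h3 | h3
  · exact absurd (not_wt_three hdim h2 hwn (isW_congr h3 hw)) (by simp)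
  · have h4 := isW_congr h3 hw
    exact absurd (not_wt_seven hdim h2 hi (zz h4 (by decide)) hwn h4) (by simp)
  · have h4 := isW_congr h3 hw
    have hz' := zz h4 (by decide)
    obtain ⟨u, hu, hu', hue⟩ := exists_eig hi hz' (by norm_num) hwn h4
    have h1 := (linInd_prV h2 hi hz' rep_st dist6 (by norm_num) hu hu' hue).fintype_card_le_finrank
    rw [Fintype.card_prod, Fintype.card_fin, Fintype.card_fin] at h1
    have h3 : (wts 2 ((List.range 6).map rep)).length = 6 := by decide
    exact ⟨by omega, u, hu, hz', hu', hue⟩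

end Cfsg.Agent.H878.Sz.N
end

-- part: H878/Sz/NUniq
section
/-!
# Representations of `6.Suz` of degree at most 12 in characteristic 3: uniqueness (helper878)

`trace_unique` : two such representations have the same traces.
-/

set_option autoImplicit false
set_option maxRecDepth 100000
set_option linter.unusedSimpArgs false

namespace Cfsg.Agent.H878.Sz.N

open Cfsg Cfsg.Spor Cfsg.Agent.H58.SuzRep Module Cfsg.Agent.H878.Sz

/-! ### data -/

/-- the weight of a block -/
def wR (x : ℕ) : ℕ := actW (rep x) 2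

theorem rep_all : ∀ x < 6, (rep x).all st68 = true := by decide +kernel

theorem wR_chk : ((List.range 6).all fun x => (List.range 6).all fun x' =>
    Nat.beq x x' || ks.any fun k => !(Nat.beq (E k (wR x) % 2) (E k (wR x') % 2))) = true := by decide +kernel

/-- `e` and `κ` -/
def ce : ℕ → List ℕ
  | 12 => [5, 7, 7, 7]
  | 13 => [2, 10, 7, 7, 7]
  | 14 => [0, 2, 5]
  | _ => [2, 7, 7, 7]

/-- `j` and `κ` -/
def cj : ℕ → List ℕ
  | 12 => [5, 10, 7, 7, 7]
  | 13 => [0, 5, 7, 7, 7]
  | 14 => [2, 5, 10]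
  | _ => [0]

/-- `κ` as a commutator with `y` -/
def kw : ℕ → List ℕ
  | 12 => [12, 13, 14, 15]
  | 13 => [12]
  | 14 => [14, 15]
  | _ => [12, 13, 14]

/-- the correction -/
def kb : ℕ → List ℕ
  | 12 => [2, 5, 10]
  | 13 => [2, 7, 7, 7]
  | 14 => [2, 5]
  | _ => [0, 2, 10, 7, 7, 7]

/-- the letters `κ` -/
def stK (k : ℕ) : Bool := Nat.beq k 12 || Nat.beq k 13 || Nat.beq k 14 || Nat.beq k 15

set_option Elab.async false in
theorem k_chk : ([12, 13, 14, 15].all fun k => eqV [k, 4] ([4, k] ++ ce k) && eqV [k, 11] ([11, k] ++ cj k) &&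
    eqV ([8] ++ kw k) ([k] ++ kw k ++ [8] ++ kb k) && (ce k).all stB && (cj k).all stB && (kb k).all stB &&
    (kw k).all stK && Nat.beq (sumE (ce k) 2 % 2) 0 && Nat.beq (sumE (cj k) 2 % 2) 0 &&
    Nat.beq (sumE (kb k) 2 % 2) 0 && chkS k && pE k 2 2) = true := by (rewrite [show @Cfsg.Agent.H878.Sz.N.chkS = delta% @Cfsg.Agent.H878.Sz.N.chkS from by delta Cfsg.Agent.H878.Sz.N.chkS; rfl, show @Cfsg.Agent.H878.Sz.N.eqV = delta% @Cfsg.Agent.H878.Sz.N.eqV from by delta Cfsg.Agent.H878.Sz.N.eqV; rfl, Cfsg.Agent.Lib.PackCol.checkEq_col]; decide +kernel)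

/-- letters of `Q` -/
def stQ (k : ℕ) : Bool := stB k || Nat.beq k 4 || Nat.beq k 11 || stK k

/-- `t e t⁻¹` -/
def te : ℕ → List ℕ
  | 16 => [11]
  | 17 => [4, 11, 14, 15, 0]
  | _ => [4, 11, 12, 15, 0]

/-- `t j t⁻¹` -/
def tj : ℕ → List ℕ
  | 16 => [4, 11]
  | 17 => [4, 13, 2, 10, 7, 7, 7]
  | _ => [4, 12, 13, 14, 15, 2, 5]

theorem t_chk : ([16, 17, 18].all fun k => eqV [k, 4] (te k ++ [k]) && eqV [k, 11] (tj k ++ [k]) &&
    eqV [k, k, k] [] && (te k).all stQ && (tj k).all stQ && chkS k && pE k 2 2) = true := by decide +kernel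

theorem y_chk : eqV [8] [17, 18, 17, 18, 16, 7, 7] = true := by decide +kernel
theorem y_chk' : eqV [9] [8, 8, 8, 8] = true := by decide +kernel
theorem pE8 : pE 8 2 2 = true := by decide +kernel

/-- the letters in terms of the generators of `6.2^(4+6):3A₆` -/
def lg : ℕ → List ℕ
  | 9 => [8, 8, 8, 8]
  | 10 => [8, 0, 9]
  | 11 => [16, 4, 16, 16]
  | 12 => [8, 4, 9, 7, 7, 7, 4]
  | 13 => [8, 8, 4, 9, 9, 7, 7, 7, 4]
  | 14 => [8, 8, 8, 4, 9, 9, 9, 7, 7, 7, 4]
  | 15 => [8, 8, 8, 8, 4, 9, 9, 9, 9, 7, 7, 7, 4]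
  | 18 => [8, 17, 9]
  | k => [k]

theorem lg_chk : ([9, 10, 11, 12, 13, 14, 15, 18].all fun k => eqV [k] (lg k)) = true := by decide +kernel

/-- the letters of `M₁` -/
def stM (k : ℕ) : Bool := Nat.beq k 0 || Nat.beq k 2 || (Nat.ble 4 k && Nat.ble k 18)

/-- elements of `M₁ ∩ M₁^d` and their conjugates -/
def dD : List (List ℕ × List ℕ) := [([0], [0]), ([2], [8, 6, 9, 18, 16, 16, 5, 10, 7]), ([5], [5]),
  ([10], [18, 17, 17, 18, 17, 16, 16, 5, 7]),
  ([4, 14], [8, 6, 9, 18, 16, 16, 4, 11, 12, 15, 10, 7, 7, 7, 7]),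
  ([11, 13, 14], [18, 17, 17, 18, 17, 16, 16, 11, 12, 13, 14, 0, 10, 7]),
  ([6], [6]), ([], []),
  ([8, 6, 9, 18], [18, 17, 17, 18, 17, 16, 0, 2, 5, 7, 7, 7]),
  ([8, 8, 6, 9, 17], [8, 8, 6, 9, 17, 16, 16, 0, 7, 7, 7]),
  ([8, 8, 8, 8, 6, 17], [8, 8, 8, 6, 18, 9, 18, 17, 16, 16, 0, 5, 10, 7]),
  ([8, 8, 8, 6, 8, 18], [8, 8, 8, 8, 6, 18, 17, 8, 8, 18, 17, 0, 5, 7, 7, 7])]

theorem d_chk : (dD.all fun m => eqV (3 :: m.1) (m.2 ++ [3]) && m.1.all stM && m.2.all stM) = true := by
  decide +kernel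

/-- the transversal in `M₁ ∩ M₁^d` -/
def dR : List (ℕ × List ℕ) := [(6, []), (7, []), (8, [8, 17, 17]), (9, [18, 17, 18, 16, 7, 7]), (10, [17, 17]),
  (11, [8, 18, 16, 16, 7, 7, 7, 7])]

theorem dR_chk : ((List.range 6).all fun x => eqV (rep x)
    ((dD.getD (dR.getD x (0, [])).1 ([], [])).1 ++ (dR.getD x (0, [])).2) && (dR.getD x (0, [])).2.all st &&
    Nat.blt (dR.getD x (0, [])).1 12) = true := by decide +kernel

theorem b_chk : eqV [1] [8, 8, 3, 9, 3, 8, 6, 8, 18, 17, 17, 18, 16, 16, 7, 7, 7, 7] = true := by decide +kernel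

/-! ### the theory -/

section

variable {K : Type*} [Field K] {M : Type*} [AddCommGroup M] [Module K M] {ρ : Representation K Y M} {ζ i : K}
  {M' : Type*} [AddCommGroup M'] [Module K M'] {τ : Representation K Y M'}

theorem two_ne (K : Type*) [Field K] [CharP K 3] : (2 : K) ≠ 0 := by
  intro h
  have h3 : (3 : K) = 0 := by exact_mod_cast CharP.cast_eq_zero K 3
  have : (1 : K) = 3 - 2 := by norm_num
  rw [h, h3, sub_zero] at this
  exact one_ne_zero this

theorem chi6 (h2 : (2 : K) ≠ 0) :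
    Function.Injective fun (x : Fin 6) (j : Fin 5) => (-1 : K) ^ E (ks.getD j 0) (wR x) := by
  intro x x' h
  have h1 := List.all_eq_true.1 (List.all_eq_true.1 wR_chk x (List.mem_range.2 x.2)) x' (List.mem_range.2 x'.2)
  rw [Bool.or_eq_true] at h1
  rcases h1 with h1 | h1
  · exact Fin.ext (Nat.eq_of_beq_eq_true h1)
  · exfalso
    obtain ⟨k, hk, h3⟩ := List.any_eq_true.1 h1
    obtain ⟨j, hj, rfl⟩ := List.mem_iff_getElem.1 hk
    have h4 := pow_inj h2 (congrFun h ⟨j, hj⟩)
    have e : ks.getD j 0 = ks[j] := by rw [List.getD_eq_getElem?_getD, List.getElem?_eq_getElem hj, Option.getD_some]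
    simp only [e] at h4
    rw [h4] at h3
    simp at h3

theorem wt_prV {u : M} (hF : Fr ρ i u) (a : Fin 2) : IsW ρ (prV ρ u a) 2 := by
  fin_cases a
  · exact hF.wt
  · exact isW_step chkS11 (pE_id 2 (by norm_num)).2 hF.wt

/-- the vectors of the frame -/
def vec (ρ : Representation K Y M) (u : M) (x : Fin 6) (a : Fin 2) : M := ρ (V (rep x)) (prV ρ u a)

theorem vec_wt {u : M} (hF : Fr ρ i u) (x : Fin 6) (a : Fin 2) (j : Fin 5) :
    ρ (lt (ks.getD j 0)) (vec ρ u x a) = (-1 : K) ^ E (ks.getD j 0) (wR x) • vec ρ u x a :=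
  (isW_actW (by norm_num) (wt_prV hF a) (rep_all x x.2)).1 _ (ks_mem j)

theorem vec_linInd (h2 : (2 : K) ≠ 0) (hi : i ^ 2 = -1) {u : M} (hF : Fr ρ i u) :
    LinearIndependent K fun p : Fin 6 × Fin 2 => vec ρ u p.1 p.2 := by
  refine linInd_blocks (fun j : Fin 5 => ρ (lt (ks.getD j 0)))
    (fun (x : Fin 6) (j : Fin 5) => (-1 : K) ^ E (ks.getD j 0) (wR x)) (chi6 h2) (vec ρ u) ?_ (vec_wt hF)
  intro x
  refine (prV_linInd h2 hi hF.z hF.ne hF.e).map' (ρ (V (rep x))) ?_
  rw [LinearMap.ker_eq_bot']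
  intro m hm
  by_contra h0
  exact apply_ne h0 hm

/-- the basis -/
noncomputable def bas (h2 : (2 : K) ≠ 0) (hi : i ^ 2 = -1) {u : M} (hF : Fr ρ i u) (hd : finrank K M = 12) :
    Basis (Fin 6 × Fin 2) K M :=
  basisOfLinearIndependentOfCardEqFinrank (vec_linInd h2 hi hF) (by simp [hd])

theorem bas_apply (h2 : (2 : K) ≠ 0) (hi : i ^ 2 = -1) {u : M} (hF : Fr ρ i u) (hd : finrank K M = 12)
    (x : Fin 6) (a : Fin 2) : bas h2 hi hF hd (x, a) = vec ρ u x a := by
  unfold bas; simp

theorem vec_one (u : M) (a : Fin 2) : vec ρ u 1 a = prV ρ u a := by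
  have : rep ((1 : Fin 6) : ℕ) = [] := rfl
  rw [vec, this, apply_V_nil]

theorem of_wt (h2 : (2 : K) ≠ 0) (hi : i ^ 2 = -1) {u : M} (hF : Fr ρ i u) (hd : finrank K M = 12) {w : M}
    (hw : IsW ρ w 2) : ∃ c₀ c₁ : K, w = c₀ • prV ρ u 0 + c₁ • prV ρ u 1 := by
  obtain ⟨c₀, c₁, h⟩ := of_wt_blocks (fun j : Fin 5 => ρ (lt (ks.getD j 0)))
    (fun (x : Fin 6) (j : Fin 5) => (-1 : K) ^ E (ks.getD j 0) (wR x)) (chi6 h2) (bas h2 hi hF hd)
    (fun x a j => by rw [bas_apply]; exact vec_wt hF x a j) (x₀ := 1) (u := w) (fun j => hw _ (ks_mem j))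
  rw [bas_apply, bas_apply, vec_one, vec_one] at h
  exact ⟨c₀, c₁, h⟩

/-- `s` acts on the block by the matrix `L` -/
def R (ρ : Representation K Y M) (u : M) (s : Y) (L : Matrix (Fin 2) (Fin 2) K) : Prop :=
  ∀ a, ρ s (prV ρ u a) = L 0 a • prV ρ u 0 + L 1 a • prV ρ u 1

theorem R_one {u : M} : R ρ u 1 1 := by
  intro a
  rw [map_one, Module.End.one_apply]
  (revert a; simp only [Matrix.one_apply, _root_.Fin.forall_fin_succ, Fin.isValue, _root_.ite_smul, _root_.one_smul, _root_.zero_smul, ↓reduceIte, _root_.one_ne_zero, _root_.add_zero, _root_.Fin.succ_zero_eq_one, _root_.zero_ne_one, _root_.zero_add, _root_.IsEmpty.forall_iff, _root_.and_self])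

theorem R_mul {u : M} {s t : Y} {L L' : Matrix (Fin 2) (Fin 2) K} (h : R ρ u s L) (h' : R ρ u t L') :
    R ρ u (s * t) (L * L') := by
  intro a
  rw [map_mul, Module.End.mul_apply, h', map_add, map_smul, map_smul, h, h, Matrix.mul_apply, Matrix.mul_apply,
    Fin.sum_univ_two, Fin.sum_univ_two]
  module

theorem R_uniq {u : M} (hl : LinearIndependent K (prV ρ u)) {s : Y} {L L' : Matrix (Fin 2) (Fin 2) K}
    (h : R ρ u s L) (h' : R ρ u s L') : L = L' := by
  have key : ∀ a, L 0 a = L' 0 a ∧ L 1 a = L' 1 a := by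
    intro a
    have h1 : (L 0 a - L' 0 a) • prV ρ u 0 + (L 1 a - L' 1 a) • prV ρ u 1 = 0 := by
      have h2 := (h a).symm.trans (h' a)
      have h3 : (L 0 a - L' 0 a) • prV ρ u 0 + (L 1 a - L' 1 a) • prV ρ u 1 =
          (L 0 a • prV ρ u 0 + L 1 a • prV ρ u 1) - (L' 0 a • prV ρ u 0 + L' 1 a • prV ρ u 1) := by module
      rw [h3, h2, sub_self]
    have h2 := LinearIndependent.pair_iff.1 (show LinearIndependent K ![prV ρ u 0, prV ρ u 1] from hl) _ _ h1
    exact ⟨sub_eq_zero.1 h2.1, sub_eq_zero.1 h2.2⟩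
  ext a b
  fin_cases a
  · exact (key b).1
  · exact (key b).2

theorem R_exists (h2 : (2 : K) ≠ 0) (hi : i ^ 2 = -1) {u : M} (hF : Fr ρ i u) (hd : finrank K M = 12) {k : ℕ}
    (hk : chkS k = true) (hk' : pE k 2 2 = true) : ∃ L, R ρ u (lt k) L := by
  have h1 : ∀ a, ∃ c₀ c₁ : K, ρ (lt k) (prV ρ u a) = c₀ • prV ρ u 0 + c₁ • prV ρ u 1 := fun a =>
    of_wt h2 hi hF hd (isW_step hk hk' (wt_prV hF a))
  choose c₀ c₁ h using h1
  refine ⟨!![c₀ 0, c₀ 1; c₁ 0, c₁ 1], fun a => ?_⟩
  fin_cases a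
  · exact h 0
  · exact h 1

theorem R_ks {u : M} (hF : Fr ρ i u) {s : List ℕ} (hs : s.all stB = true) :
    R ρ u (V s) ((-1 : K) ^ sumE s 2 • 1) := by
  intro a
  rw [apply_B (wt_prV hF a) hs]
  (revert a; simp only [Matrix.one_apply, _root_.Fin.forall_fin_succ, Fin.isValue, _root_.Matrix.smul_apply, _root_.smul_eq_mul, _root_.mul_ite, _root_.mul_one, _root_.MulZeroClass.mul_zero, _root_.ite_smul, _root_.zero_smul, ↓reduceIte, _root_.one_ne_zero, _root_.add_zero, _root_.Fin.succ_zero_eq_one, _root_.zero_ne_one, _root_.zero_add, _root_.IsEmpty.forall_iff, _root_.and_self])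

/-- matrix of `e` -/
def Ee (i : K) : Matrix (Fin 2) (Fin 2) K := !![i, 0; 0, -i]
/-- matrix of `j` -/
def Jj (K : Type*) [Field K] : Matrix (Fin 2) (Fin 2) K := !![0, -1; 1, 0]

theorem R_e {u : M} (hF : Fr ρ i u) : R ρ u (lt 4) (Ee i) := by
  intro a
  fin_cases a
  · show ρ (lt 4) u = i • u + (0 : K) • ρ (lt 11) u
    rw [hF.e, zero_smul, add_zero]
  · show ρ (lt 4) (ρ (lt 11) u) = (0 : K) • u + (-i) • ρ (lt 11) u
    rw [e_j' hF.z, hF.e, map_smul, zero_smul, zero_add, neg_smul]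

theorem R_j {u : M} (hF : Fr ρ i u) : R ρ u (lt 11) (Jj K) := by
  intro a
  fin_cases a
  · show ρ (lt 11) u = (0 : K) • u + (1 : K) • ρ (lt 11) u
    rw [zero_smul, zero_add, one_smul]
  · show ρ (lt 11) (ρ (lt 11) u) = (-1 : K) • u + (0 : K) • ρ (lt 11) u
    rw [j_j hF.z, zero_smul, add_zero, neg_one_smul]

theorem scalar_of_comm (h2 : (2 : K) ≠ 0) (hi : i ^ 2 = -1) {L : Matrix (Fin 2) (Fin 2) K} (he : L * Ee i = Ee i * L)
    (hj : L * Jj K = Jj K * L) : ∃ c : K, L = c • (1 : Matrix (Fin 2) (Fin 2) K) := by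
  have hi0 : i ≠ 0 := by rintro rfl; norm_num at hi
  have e01 := congrFun (congrFun he 0) 1
  have e10 := congrFun (congrFun he 1) 0
  have f10 := congrFun (congrFun hj 1) 0
  simp only [Ee, Jj, Matrix.mul_apply, Fin.sum_univ_two, Matrix.of_apply, Matrix.cons_val', Matrix.cons_val_zero,
    Matrix.cons_val_one, Matrix.cons_val_fin_one, mul_zero, zero_mul, zero_add, add_zero, mul_one, one_mul, mul_neg,
    neg_mul] at e01 e10 f10
  have h01 : L 0 1 = 0 := by
    have h3 : (2 * i) * L 0 1 = 0 := by linear_combination -e01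
    rcases mul_eq_zero.1 h3 with h | h
    · rcases mul_eq_zero.1 h with h | h
      · exact absurd h h2
      · exact absurd h hi0
    · exact h
  have h10 : L 1 0 = 0 := by
    have h3 : (2 * i) * L 1 0 = 0 := by linear_combination e10
    rcases mul_eq_zero.1 h3 with h | h
    · rcases mul_eq_zero.1 h with h | h
      · exact absurd h h2
      · exact absurd h hi0
    · exact h
  refine ⟨L 0 0, ?_⟩
  ext a b
  fin_cases a <;> fin_cases b
  · simp
  · simpa using h01
  · simpa using h10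
  · simpa using f10

end

end Cfsg.Agent.H878.Sz.N
end

-- part: H878/Sz/NLet
section
/-!
# Representations of `6.Suz` of degree at most 12 in characteristic 3: the stabiliser of a block (helper878)

`nm_V` : words of the stabiliser of the block act in the same way in two representations.
-/

set_option autoImplicit false
set_option maxRecDepth 100000
set_option linter.unusedSimpArgs false

namespace Cfsg.Agent.H878.Sz.N

open Cfsg Cfsg.Spor Cfsg.Agent.H58.SuzRep Module Cfsg.Agent.H878.Sz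

section

variable {K : Type*} [Field K] {M : Type*} [AddCommGroup M] [Module K M] {ρ : Representation K Y M} {ζ i : K}
  {M' : Type*} [AddCommGroup M'] [Module K M'] {τ : Representation K Y M'}

/-! ### the elements `κ` -/

/-- the facts on `κ` -/
theorem k_spec {k : ℕ} (hk : k ∈ [12, 13, 14, 15]) : eqV [k, 4] ([4, k] ++ ce k) = true ∧
    eqV [k, 11] ([11, k] ++ cj k) = true ∧ eqV ([8] ++ kw k) ([k] ++ kw k ++ [8] ++ kb k) = true ∧
    (ce k).all stB = true ∧ (cj k).all stB = true ∧ (kb k).all stB = true ∧ (kw k).all stK = true ∧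
    sumE (ce k) 2 % 2 = 0 ∧ sumE (cj k) 2 % 2 = 0 ∧ sumE (kb k) 2 % 2 = 0 ∧ chkS k = true ∧ pE k 2 2 = true := by
  have h := List.all_eq_true.1 k_chk k hk
  simp only [Bool.and_eq_true] at h
  obtain ⟨⟨⟨⟨⟨⟨⟨⟨⟨⟨⟨h1, h2⟩, h3⟩, h4⟩, h5⟩, h6⟩, h7⟩, h8⟩, h9⟩, h10⟩, h11⟩, h12⟩ := h
  exact ⟨h1, h2, h3, h4, h5, h6, h7, Nat.eq_of_beq_eq_true h8, Nat.eq_of_beq_eq_true h9, Nat.eq_of_beq_eq_true h10,
    h11, h12⟩

theorem stK_mem {k : ℕ} (h : stK k = true) : k ∈ [12, 13, 14, 15] := by
  unfold stK at h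
  simp only [Bool.or_eq_true] at h
  rcases h with ((h | h) | h) | h <;> (have := Nat.eq_of_beq_eq_true h; subst this; decide)

theorem R_even {u : M} (hF : Fr ρ i u) {s : List ℕ} (hs : s.all stB = true) (h0 : sumE s 2 % 2 = 0) :
    R ρ u (V s) 1 := by
  have h := R_ks hF hs
  rwa [neg_one_pow_eq_pow_mod_two, h0, pow_zero, one_smul] at h

theorem R_V_cons {u : M} {k : ℕ} {s : List ℕ} {L L' : Matrix (Fin 2) (Fin 2) K} (h : R ρ u (lt k) L)
    (h' : R ρ u (V s) L') : R ρ u (V (k :: s)) (L * L') := by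
  rw [V_cons]; exact R_mul h h'

theorem R_V_append {u : M} {s t : List ℕ} {L L' : Matrix (Fin 2) (Fin 2) K} (h : R ρ u (V s) L)
    (h' : R ρ u (V t) L') : R ρ u (V (s ++ t)) (L * L') := by
  rw [V_append]; exact R_mul h h'

theorem R_V_one {u : M} {k : ℕ} {L : Matrix (Fin 2) (Fin 2) K} (h : R ρ u (lt k) L) : R ρ u (V [k]) L := by
  rw [V_one]; exact h

theorem k_scalar (h2 : (2 : K) ≠ 0) (hi : i ^ 2 = -1) {u : M} (hF : Fr ρ i u) (hd : finrank K M = 12) {k : ℕ}
    (hk : k ∈ [12, 13, 14, 15]) : ∃ c : K, c ≠ 0 ∧ R ρ u (lt k) (c • 1) := by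
  obtain ⟨h1, h3, -, h4, h5, -, -, h6, h7, -, h8, h9⟩ := k_spec hk
  have hl := prV_linInd h2 hi hF.z hF.ne hF.e
  obtain ⟨L, hL⟩ := R_exists h2 hi hF hd h8 h9
  obtain ⟨c, hc⟩ := scalar_of_comm h2 hi (L := L) (by
      have a1 := R_V_cons hL (R_V_one (R_e hF))
      have a2 := R_V_append (R_V_cons (R_e hF) (R_V_one hL)) (R_even hF h4 h6)
      rw [mul_one] at a2
      refine R_uniq hl a1 ?_
      rw [V_eq h1]
      exact a2) (by
      have a1 := R_V_cons hL (R_V_one (R_j hF))
      have a2 := R_V_append (R_V_cons (R_j hF) (R_V_one hL)) (R_even hF h5 h7)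
      rw [mul_one] at a2
      refine R_uniq hl a1 ?_
      rw [V_eq h3]
      exact a2)
  refine ⟨c, ?_, by rw [← hc]; exact hL⟩
  rintro rfl
  have h10 := hL 0
  rw [hc, zero_smul, Matrix.zero_apply, Matrix.zero_apply, zero_smul, zero_smul, add_zero] at h10
  exact apply_ne hF.ne h10

theorem kword_scalar (h2 : (2 : K) ≠ 0) (hi : i ^ 2 = -1) {u : M} (hF : Fr ρ i u) (hd : finrank K M = 12) :
    ∀ {s : List ℕ}, s.all stK = true → ∃ c : K, c ≠ 0 ∧ R ρ u (V s) (c • 1)
  | [], _ => ⟨1, one_ne_zero, by rw [one_smul, V_nil]; exact R_one⟩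
  | k :: s, hs => by
    rw [List.all_cons, Bool.and_eq_true] at hs
    obtain ⟨c, hc, h⟩ := k_scalar h2 hi hF hd (stK_mem hs.1)
    obtain ⟨c', hc', h'⟩ := kword_scalar h2 hi hF hd hs.2
    refine ⟨c * c', mul_ne_zero hc hc', ?_⟩
    have h3 := R_V_cons h h'
    rwa [Matrix.smul_mul, one_mul, smul_smul] at h3

theorem R_k (h2 : (2 : K) ≠ 0) (hi : i ^ 2 = -1) {u : M} (hF : Fr ρ i u) (hd : finrank K M = 12) {k : ℕ}
    (hk : k ∈ [12, 13, 14, 15]) : R ρ u (lt k) 1 := by
  obtain ⟨-, -, h1, -, -, h3, h4, -, -, h5, -, -⟩ := k_spec hk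
  have hl := prV_linInd h2 hi hF.z hF.ne hF.e
  obtain ⟨c, hc, h⟩ := k_scalar h2 hi hF hd hk
  obtain ⟨c', hc', h'⟩ := kword_scalar h2 hi hF hd h4
  obtain ⟨L, hL⟩ := R_exists h2 hi hF hd chkS8 pE8
  have a1 := R_V_append (R_V_one hL) h'
  have a2 := R_V_append (R_V_append (R_V_append (R_V_one h) h') (R_V_one hL)) (R_even hF h3 h5)
  have a3 := R_uniq hl a1 (by rw [V_eq h1]; exact a2)
  rw [mul_one, Matrix.mul_smul, mul_one, Matrix.smul_mul, one_mul, smul_smul, Matrix.smul_mul, one_mul] at a3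
  have hL0 : L ≠ 0 := by
    rintro rfl
    have h10 := hL 0
    rw [Matrix.zero_apply, Matrix.zero_apply, zero_smul, zero_smul, add_zero] at h10
    exact apply_ne hF.ne h10
  have h6 : (c' - c * c') • L = 0 := by rw [sub_smul, ← a3, sub_self]
  have h7 : c' - c * c' = 0 := (smul_eq_zero.1 h6).resolve_right hL0
  have h8 : c = 1 := by
    have : c' * (1 - c) = 0 := by linear_combination h7
    rcases mul_eq_zero.1 this with h | h
    · exact absurd h hc'
    · exact (sub_eq_zero.1 h).symm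
  rw [h8, one_smul] at h
  exact h

/-! ### the group `Q` -/

/-- the matrices of the letters of `Q` -/
noncomputable def Lc (i : K) (k : ℕ) : Matrix (Fin 2) (Fin 2) K :=
  if k = 4 then Ee i else if k = 11 then Jj K else if stK k = true then 1 else (-1 : K) ^ E k 2 • 1

theorem R_lc (h2 : (2 : K) ≠ 0) (hi : i ^ 2 = -1) {u : M} (hF : Fr ρ i u) (hd : finrank K M = 12) {k : ℕ}
    (hk : stQ k = true) : R ρ u (lt k) (Lc i k) := by
  unfold stQ at hk
  simp only [Bool.or_eq_true] at hk
  unfold Lc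
  by_cases h4 : k = 4
  · subst h4; rw [if_pos rfl]; exact R_e hF
  by_cases h11 : k = 11
  · subst h11; rw [if_neg h4, if_pos rfl]; exact R_j hF
  rw [if_neg h4, if_neg h11]
  by_cases hK : stK k = true
  · rw [if_pos hK]; exact R_k h2 hi hF hd (stK_mem hK)
  · rw [if_neg hK]
    rcases hk with ((hk | hk) | hk) | hk
    · have h := R_ks hF (s := [k]) (by rw [List.all_cons, hk]; rfl)
      rw [V_one] at h
      simpa only [sumE, _root_.List.map_cons, _root_.List.map_nil, _root_.List.sum_cons, _root_.List.sum_nil, _root_.add_zero] using h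
    · exact absurd (Nat.eq_of_beq_eq_true hk) h4
    · exact absurd (Nat.eq_of_beq_eq_true hk) h11
    · exact absurd hk hK

/-- the matrices of the words of `Q` -/
noncomputable def Lw (i : K) (s : List ℕ) : Matrix (Fin 2) (Fin 2) K := (s.map (Lc i)).prod

theorem R_lw (h2 : (2 : K) ≠ 0) (hi : i ^ 2 = -1) {u : M} (hF : Fr ρ i u) (hd : finrank K M = 12) :
    ∀ {s : List ℕ}, s.all stQ = true → R ρ u (V s) (Lw i s)
  | [], _ => by rw [V_nil]; exact R_one
  | k :: s, hs => by
    rw [List.all_cons, Bool.and_eq_true] at hs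
    have h3 := R_V_cons (R_lc h2 hi hF hd hs.1) (R_lw h2 hi hF hd hs.2)
    rwa [Lw, List.map_cons, List.prod_cons]

/-! ### elements of order 3 -/

theorem t_spec {k : ℕ} (hk : k ∈ [16, 17, 18]) : eqV [k, 4] (te k ++ [k]) = true ∧
    eqV [k, 11] (tj k ++ [k]) = true ∧ eqV [k, k, k] [] = true ∧ (te k).all stQ = true ∧ (tj k).all stQ = true ∧
    chkS k = true ∧ pE k 2 2 = true := by
  have h := List.all_eq_true.1 t_chk k hk
  simp only [Bool.and_eq_true] at h
  obtain ⟨⟨⟨⟨⟨⟨h1, h2⟩, h3⟩, h4⟩, h5⟩, h6⟩, h7⟩ := h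
  exact ⟨h1, h2, h3, h4, h5, h6, h7⟩

/-- matrices of order 3 -/
theorem mat_unique [CharP K 3] (hi : i ^ 2 = -1) {L L' A B : Matrix (Fin 2) (Fin 2) K} (hL : L * (L * L) = 1)
    (hL' : L' * (L' * L') = 1) (h1 : L * Ee i = A * L) (h1' : L' * Ee i = A * L') (h3 : L * Jj K = B * L)
    (h3' : L' * Jj K = B * L') : L = L' := by
  have key : ∀ {X C : Matrix (Fin 2) (Fin 2) K}, L * X = C * L → L' * X = C * L' →
      (L * L * L') * X = X * (L * L * L') := by
    intro X C a1 a2
    have a3 : L * L * C = X * (L * L) := by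
      calc L * L * C = L * L * C * (L * (L * L)) := by rw [hL, mul_one]
        _ = L * L * (C * L) * (L * L) := by simp only [mul_assoc]
        _ = L * L * (L * X) * (L * L) := by rw [a1]
        _ = (L * (L * L)) * X * (L * L) := by simp only [mul_assoc]
        _ = X * (L * L) := by rw [hL, one_mul]
    calc (L * L * L') * X = L * L * (L' * X) := by simp only [mul_assoc]
      _ = L * L * C * L' := by rw [a2]; simp only [mul_assoc]
      _ = X * (L * L * L') := by rw [a3]; simp only [mul_assoc]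
  obtain ⟨c, hc⟩ := scalar_of_comm (two_ne K) hi (key h1 h1') (key h3 h3')
  have h5 : L' = c • L := by
    have : L * (L * L * L') = L' := by
      rw [show L * (L * L * L') = (L * (L * L)) * L' by simp only [mul_assoc], hL, one_mul]
    rw [← this, hc, Matrix.mul_smul, mul_one]
  have h6 : c ^ 3 = 1 := by
    rw [h5] at hL'
    simp only [Matrix.smul_mul, Matrix.mul_smul, smul_smul] at hL'
    rw [hL] at hL'
    have h7 := congrFun (congrFun hL' 0) 0
    simp only [Matrix.smul_apply, Matrix.one_apply_eq, smul_eq_mul, mul_one] at h7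
    rw [← h7]; ring
  have h8 : c = 1 := by
    have h9 : (c - 1) ^ 3 = 0 := by
      have h3 : (3 : K) = 0 := by exact_mod_cast CharP.cast_eq_zero K 3
      have : (c - 1) ^ 3 = (c ^ 3 - 1) - 3 * (c ^ 2 - c) := by ring
      rw [this, h3, h6]; ring
    exact sub_eq_zero.1 (pow_eq_zero_iff (by norm_num) |>.1 h9)
  rw [h5, h8, one_smul]

/-- the same action on the blocks -/
def Nm (ρ : Representation K Y M) (τ : Representation K Y M') (u : M) (u' : M') (s : Y) : Prop :=
  ∃ L, R ρ u s L ∧ R τ u' s L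

theorem nm_mul {u : M} {u' : M'} {s t : Y} (h : Nm ρ τ u u' s) (h' : Nm ρ τ u u' t) : Nm ρ τ u u' (s * t) := by
  obtain ⟨L, h1, h2⟩ := h
  obtain ⟨L', h1', h2'⟩ := h'
  exact ⟨L * L', R_mul h1 h1', R_mul h2 h2'⟩

theorem nm_V_of {u : M} {u' : M'} {p : ℕ → Bool} (hp : ∀ k, p k = true → Nm ρ τ u u' (lt k)) :
    ∀ {s : List ℕ}, s.all p = true → Nm ρ τ u u' (V s)
  | [], _ => by rw [V_nil]; exact ⟨1, R_one, R_one⟩
  | k :: s, hs => by
    rw [List.all_cons, Bool.and_eq_true] at hs
    rw [V_cons]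
    exact nm_mul (hp k hs.1) (nm_V_of hp hs.2)

theorem t_mat [CharP K 3] (hi : i ^ 2 = -1) {u : M} (hF : Fr ρ i u) (hd : finrank K M = 12) {k : ℕ}
    (hk : k ∈ [16, 17, 18]) : ∃ L, R ρ u (lt k) L ∧ L * (L * L) = 1 ∧ L * Ee i = Lw i (te k) * L ∧
      L * Jj K = Lw i (tj k) * L := by
  have h2 := two_ne K
  obtain ⟨a1, a2, a3, a4, a5, a6, a7⟩ := t_spec hk
  have hl := prV_linInd h2 hi hF.z hF.ne hF.e
  obtain ⟨L, hL⟩ := R_exists h2 hi hF hd a6 a7
  refine ⟨L, hL, ?_, ?_, ?_⟩
  · refine R_uniq hl (R_V_cons hL (R_V_cons hL (R_V_one hL))) ?_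
    rw [V_eq a3, V_nil]; exact R_one
  · refine R_uniq hl (R_V_cons hL (R_V_one (R_e hF))) ?_
    rw [V_eq a1]
    exact R_V_append (R_lw h2 hi hF hd a4) (R_V_one hL)
  · refine R_uniq hl (R_V_cons hL (R_V_one (R_j hF))) ?_
    rw [V_eq a2]
    exact R_V_append (R_lw h2 hi hF hd a5) (R_V_one hL)

theorem nm_t [CharP K 3] (hi : i ^ 2 = -1) {u : M} (hF : Fr ρ i u) (hd : finrank K M = 12) {u' : M'}
    (hF' : Fr τ i u') (hd' : finrank K M' = 12) {k : ℕ} (hk : k ∈ [16, 17, 18]) : Nm ρ τ u u' (lt k) := by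
  obtain ⟨L, b1, b2, b3, b4⟩ := t_mat hi hF hd hk
  obtain ⟨L', c1, c2, c3, c4⟩ := t_mat hi hF' hd' hk
  have := mat_unique hi b2 c2 b3 c3 b4 c4
  subst this
  exact ⟨L, b1, c1⟩

/-- letters `Q` and order 3 -/
def stT (k : ℕ) : Bool := stQ k || (Nat.ble 16 k && Nat.ble k 18)

theorem nm_stT [CharP K 3] (hi : i ^ 2 = -1) {u : M} (hF : Fr ρ i u) (hd : finrank K M = 12) {u' : M'}
    (hF' : Fr τ i u') (hd' : finrank K M' = 12) {k : ℕ} (hk : stT k = true) : Nm ρ τ u u' (lt k) := by
  unfold stT at hk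
  rw [Bool.or_eq_true, Bool.and_eq_true] at hk
  rcases hk with hk | ⟨hk, hk'⟩
  · exact ⟨_, R_lc (two_ne K) hi hF hd hk, R_lc (two_ne K) hi hF' hd' hk⟩
  · have h1 := Nat.le_of_ble_eq_true hk
    have h2 := Nat.le_of_ble_eq_true hk'
    apply nm_t hi hF hd hF' hd'
    interval_cases k <;> decide

theorem nm_eight [CharP K 3] (hi : i ^ 2 = -1) {u : M} (hF : Fr ρ i u) (hd : finrank K M = 12) {u' : M'}
    (hF' : Fr τ i u') (hd' : finrank K M' = 12) : Nm ρ τ u u' (lt 8) := by
  rw [← V_one, V_eq y_chk]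
  exact nm_V_of (p := stT) (fun k hk => nm_stT hi hF hd hF' hd' hk) (by decide)

theorem st_cases {k : ℕ} (h : st k = true) : stT k = true ∨ k = 8 ∨ k = 9 := by
  unfold st at h
  simp only [Bool.or_eq_true, Bool.and_eq_true] at h
  rcases h with (((h | h) | h) | h) | ⟨h, h'⟩
  · have := Nat.eq_of_beq_eq_true h; subst this; left; decide
  · have := Nat.eq_of_beq_eq_true h; subst this; left; decide
  · have := Nat.eq_of_beq_eq_true h; subst this; left; decide
  · have := Nat.eq_of_beq_eq_true h; subst this; left; decide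
  · have h1 := Nat.le_of_ble_eq_true h
    have h2 := Nat.le_of_ble_eq_true h'
    interval_cases k <;> first | (left; decide) | (right; left; rfl) | (right; right; rfl)

/-- **Words of the stabiliser of the block.** -/
theorem nm_V [CharP K 3] (hi : i ^ 2 = -1) {u : M} (hF : Fr ρ i u) (hd : finrank K M = 12) {u' : M'}
    (hF' : Fr τ i u') (hd' : finrank K M' = 12) {s : List ℕ} (hs : s.all st = true) : Nm ρ τ u u' (V s) := by
  refine nm_V_of (p := st) (fun k hk => ?_) hs
  rcases st_cases hk with h | rfl | rfl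
  · exact nm_stT hi hF hd hF' hd' h
  · exact nm_eight hi hF hd hF' hd'
  · rw [← V_one, V_eq y_chk']
    exact nm_V_of (p := fun k => Nat.beq k 8) (fun k hk => by
      have := Nat.eq_of_beq_eq_true hk; subst this; exact nm_eight hi hF hd hF' hd') (by decide)

end

end Cfsg.Agent.H878.Sz.N
end

-- part: H878/Sz/NTrace
section
/-!
# Representations of `6.Suz` of degree at most 12 in characteristic 3: uniqueness of the traces (helper878)
-/

set_option autoImplicit false
set_option maxRecDepth 100000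
set_option linter.unusedSimpArgs false

namespace Cfsg.Agent.H878.Sz.N

open Cfsg Cfsg.Spor Cfsg.Agent.H58.SuzRep Module Cfsg.Agent.H878.Sz

section

variable {K : Type*} [Field K] {M : Type*} [AddCommGroup M] [Module K M] {ρ : Representation K Y M} {ζ i : K}
  {M' : Type*} [AddCommGroup M'] [Module K M'] {τ : Representation K Y M'}

theorem chkM_spec {k : ℕ} (h : chkM k = true) {x : ℕ} (hx : x < 6) :
    V (k :: rep x) = V (rep ((tab k).getD x (0, [])).1 ++ ((tab k).getD x (0, [])).2) ∧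
    ((tab k).getD x (0, [])).2.all st = true ∧ ((tab k).getD x (0, [])).1 < 6 := by
  have h1 := List.all_eq_true.1 h x (List.mem_range.2 hx)
  rw [Bool.and_eq_true, Bool.and_eq_true] at h1
  exact ⟨V_eq h1.1.1, h1.1.2, Nat.le_of_ble_eq_true h1.2⟩

variable [CharP K 3] (hi : i ^ 2 = -1) {u : M} (hF : Fr ρ i u) (hd : finrank K M = 12) {u' : M'}
    (hF' : Fr τ i u') (hd' : finrank K M' = 12)

/-- the comparison -/
noncomputable def cmp : M ≃ₗ[K] M' :=
  (bas (two_ne K) hi hF hd).equiv (bas (two_ne K) hi hF' hd') (Equiv.refl _)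

theorem cmp_vec (x : Fin 6) (a : Fin 2) : cmp hi hF hd hF' hd' (vec ρ u x a) = vec τ u' x a := by
  rw [← bas_apply (two_ne K) hi hF hd, cmp, Basis.equiv_apply, Equiv.refl_apply, bas_apply]

theorem mem_S_tab {k : ℕ} (h : chkM k = true) : lt k ∈ S ρ τ (cmp hi hF hd hF' hd') := by
  apply mem_S_of_basis (bas (two_ne K) hi hF hd)
  rintro ⟨x, a⟩
  obtain ⟨h1, h2, h3⟩ := chkM_spec h x.2
  obtain ⟨L, hL, hL'⟩ := nm_V hi hF hd hF' hd' h2
  rw [bas_apply, cmp_vec]
  set! y : Fin 6 := ⟨((tab k).getD x (0, [])).1, h3⟩ with hy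
  have e1 : ρ (lt k) (vec ρ u x a) = L 0 a • vec ρ u y 0 + L 1 a • vec ρ u y 1 := by
    have : ρ (lt k) (vec ρ u x a) = ρ (V (k :: rep x)) (prV ρ u a) := (apply_V_cons k (rep x) (prV ρ u a)).symm
    rw [this, h1, apply_V_append, hL a, map_add, map_smul, map_smul]
    rfl
  have e2 : τ (lt k) (vec τ u' x a) = L 0 a • vec τ u' y 0 + L 1 a • vec τ u' y 1 := by
    have : τ (lt k) (vec τ u' x a) = τ (V (k :: rep x)) (prV τ u' a) := (apply_V_cons k (rep x) (prV τ u' a)).symm
    rw [this, h1, apply_V_append, hL' a, map_add, map_smul, map_smul]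
    rfl
  rw [e1, e2, map_add, map_smul, map_smul, cmp_vec, cmp_vec]

theorem V_mem {H : Subgroup Y} {p : ℕ → Bool} (hp : ∀ k, p k = true → lt k ∈ H) :
    ∀ {w : List ℕ}, w.all p = true → V w ∈ H
  | [], _ => by rw [V_nil]; exact one_mem _
  | k :: w, h => by
    rw [List.all_cons, Bool.and_eq_true] at h
    rw [V_cons]
    exact mul_mem (hp k h.1) (V_mem hp h.2)

/-- the generating letters -/
def stG (k : ℕ) : Bool := Nat.beq k 0 || Nat.beq k 2 || Nat.beq k 4 || Nat.beq k 5 || Nat.beq k 6 || Nat.beq k 7 ||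
  Nat.beq k 8 || Nat.beq k 16 || Nat.beq k 17

theorem stG_mem {k : ℕ} (hk : stG k = true) : lt k ∈ S ρ τ (cmp hi hF hd hF' hd') := by
  unfold stG at hk
  simp only [Bool.or_eq_true] at hk
  rcases hk with (((((((hk | hk) | hk) | hk) | hk) | hk) | hk) | hk) | hk <;>
    (have := Nat.eq_of_beq_eq_true hk; subst this)
  · exact mem_S_tab hi hF hd hF' hd' chk0
  · exact mem_S_tab hi hF hd hF' hd' chk2
  · exact mem_S_tab hi hF hd hF' hd' chk4
  · exact mem_S_tab hi hF hd hF' hd' chk5
  · exact mem_S_tab hi hF hd hF' hd' chk6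
  · intro w
    rw [hF.z, hF'.z, map_neg]
  · exact mem_S_tab hi hF hd hF' hd' chk8
  · exact mem_S_tab hi hF hd hF' hd' chk16
  · exact mem_S_tab hi hF hd hF' hd' chk17

/-- the generating letters and 9 -/
def stG' (k : ℕ) : Bool := stG k || Nat.beq k 9

theorem stG'_mem {k : ℕ} (hk : stG' k = true) : lt k ∈ S ρ τ (cmp hi hF hd hF' hd') := by
  unfold stG' at hk
  rw [Bool.or_eq_true] at hk
  rcases hk with hk | hk
  · exact stG_mem hi hF hd hF' hd' hk
  · have := Nat.eq_of_beq_eq_true hk; subst this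
    rw [← V_one, V_eq y_chk']
    exact V_mem (p := stG) (fun k hk => stG_mem hi hF hd hF' hd' hk) (by decide)

theorem lg_st : ([10, 11, 12, 13, 14, 15, 18].all fun k => (lg k).all stG') = true := by decide

theorem stM_mem {k : ℕ} (hk : stM k = true) : lt k ∈ S ρ τ (cmp hi hF hd hF' hd') := by
  have key : ∀ k ∈ [10, 11, 12, 13, 14, 15, 18], lt k ∈ S ρ τ (cmp hi hF hd hF' hd') := by
    intro k hk
    have hk' : k ∈ [9, 10, 11, 12, 13, 14, 15, 18] := List.mem_cons_of_mem _ hk
    rw [← V_one, V_eq (List.all_eq_true.1 lg_chk k hk')]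
    exact V_mem (p := stG') (fun k hk => stG'_mem hi hF hd hF' hd' hk) (List.all_eq_true.1 lg_st k hk)
  unfold stM at hk
  simp only [Bool.or_eq_true, Bool.and_eq_true] at hk
  rcases hk with (hk | hk) | ⟨hk, hk'⟩
  · have := Nat.eq_of_beq_eq_true hk; subst this; exact stG_mem hi hF hd hF' hd' (by decide)
  · have := Nat.eq_of_beq_eq_true hk; subst this; exact stG_mem hi hF hd hF' hd' (by decide)
  · have h1 := Nat.le_of_ble_eq_true hk
    have h2 := Nat.le_of_ble_eq_true hk'
    interval_cases k <;> first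
      | exact stG_mem hi hF hd hF' hd' (by decide)
      | exact stG'_mem hi hF hd hF' hd' (by decide)
      | exact key _ (by decide)

theorem dD_spec {m : List ℕ × List ℕ} (hm : m ∈ dD) : lt 3 * V m.1 * (lt 3)⁻¹ = V m.2 ∧ m.1.all stM = true ∧
    m.2.all stM = true := by
  have h := List.all_eq_true.1 d_chk m hm
  rw [Bool.and_eq_true, Bool.and_eq_true] at h
  refine ⟨?_, h.1.2, h.2⟩
  have h1 := V_eq h.1.1
  rw [V_cons, V_append, V_one] at h1
  rw [h1, mul_inv_cancel_right]

theorem dR_spec {x : ℕ} (hx : x < 6) : V (rep x) = V ((dD.getD (dR.getD x (0, [])).1 ([], [])).1 ++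
    (dR.getD x (0, [])).2) ∧ (dR.getD x (0, [])).2.all st = true ∧
    dD.getD (dR.getD x (0, [])).1 ([], []) ∈ dD := by
  have h := List.all_eq_true.1 dR_chk x (List.mem_range.2 hx)
  rw [Bool.and_eq_true, Bool.and_eq_true] at h
  refine ⟨V_eq h.1.1, h.1.2, ?_⟩
  have h1 : (dR.getD x (0, [])).1 < dD.length := lt_of_lt_of_eq (Nat.le_of_ble_eq_true h.2) (by decide)
  rw [List.getD_eq_getElem?_getD, List.getElem?_eq_getElem h1, Option.getD_some]
  exact List.getElem_mem h1

include hi hF hd in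
/-- the commutant -/
theorem irr (X : M →ₗ[K] M) (hX : ∀ m ∈ dD, ∀ v, X (ρ (V m.1) v) = ρ (V m.1) (X v)) :
    ∃ c : K, ∀ v, X v = c • v := by
  have h2 := two_ne K
  have hi0 : i ≠ 0 := by rintro rfl; norm_num at hi
  -- `X u` has the weight 2
  have h1 : ∀ k ∈ ks, ∀ v, X (ρ (lt k) v) = ρ (lt k) (X v) := by
    intro k hk v
    simp only [ks, List.mem_cons, List.not_mem_nil, or_false] at hk
    rcases hk with rfl | rfl | rfl | rfl | rfl
    · have := hX ([0], [0]) (by decide) v
      rwa [V_one] at this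
    · have := hX ([2], [8, 6, 9, 18, 16, 16, 5, 10, 7]) (by decide) v
      rwa [V_one] at this
    · have := hX ([5], [5]) (by decide) v
      rwa [V_one] at this
    · have := hX ([10], [18, 17, 17, 18, 17, 16, 16, 5, 7]) (by decide) v
      rwa [V_one] at this
    · rw [hF.z, hF.z, map_neg]
  have hw : IsW ρ (X (prV ρ u 0)) 2 := by
    intro k hk
    rw [← h1 k hk, wt_prV hF 0 k hk, map_smul]
  obtain ⟨c, c', hc⟩ := of_wt h2 hi hF hd hw
  have hl := prV_linInd h2 hi hF.z hF.ne hF.e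
  have q1 : R ρ u (V [4, 14]) (Ee i * 1) :=
    R_V_cons (R_e hF) (R_V_one (R_k h2 hi hF hd (by decide)))
  have q2 : R ρ u (V [11, 13, 14]) (Jj K * (1 * 1)) :=
    R_V_cons (R_j hF) (R_V_cons (R_k h2 hi hF hd (by decide)) (R_V_one (R_k h2 hi hF hd (by decide))))
  rw [mul_one] at q1
  rw [mul_one, mul_one] at q2
  have a1 := hX ([4, 14], [8, 6, 9, 18, 16, 16, 4, 11, 12, 15, 10, 7, 7, 7, 7]) (by decide) (prV ρ u 0)
  have e0 : ρ (V [4, 14]) (prV ρ u 0) = i • prV ρ u 0 := by
    rw [q1 0]; simp [Ee]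
  have e1 : ρ (V [4, 14]) (prV ρ u 1) = (-i) • prV ρ u 1 := by
    rw [q1 1]; simp [Ee]
  simp only at a1
  rw [e0, map_smul, hc, map_add, map_smul, map_smul, e0, e1] at a1
  have hc' : c' = 0 := by
    have h3 : (0 : K) • prV ρ u 0 + (2 * i * c') • prV ρ u 1 = 0 := by
      have : (0 : K) • prV ρ u 0 + (2 * i * c') • prV ρ u 1 = i • (c • prV ρ u 0 + c' • prV ρ u 1) -
          (c • i • prV ρ u 0 + c' • (-i) • prV ρ u 1) := by module
      rw [this, a1, sub_self]
    have h4 := (LinearIndependent.pair_iff.1 (show LinearIndependent K ![prV ρ u 0, prV ρ u 1] from hl) _ _ h3).2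
    rcases mul_eq_zero.1 h4 with h | h
    · rcases mul_eq_zero.1 h with h | h
      · exact absurd h h2
      · exact absurd h hi0
    · exact h
  have b0 : X (prV ρ u 0) = c • prV ρ u 0 := by rw [hc, hc', zero_smul, add_zero]
  have b1 : X (prV ρ u 1) = c • prV ρ u 1 := by
    have a2 := hX ([11, 13, 14], [18, 17, 17, 18, 17, 16, 16, 11, 12, 13, 14, 0, 10, 7]) (by decide) (prV ρ u 0)
    have e2 : ρ (V [11, 13, 14]) (prV ρ u 0) = prV ρ u 1 := by
      rw [q2 0]; simp [Jj]
    simp only at a2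
    rw [e2, b0, map_smul, e2] at a2
    exact a2
  have b : ∀ a, X (prV ρ u a) = c • prV ρ u a := by
    intro a; fin_cases a
    · exact b0
    · exact b1
  refine ⟨c, ?_⟩
  have : X = c • LinearMap.id := by
    apply (bas h2 hi hF hd).ext
    rintro ⟨x, a⟩
    rw [bas_apply, LinearMap.smul_apply, LinearMap.id_apply, vec]
    obtain ⟨h3, h4, h5⟩ := dR_spec x.2
    obtain ⟨L, hL, -⟩ := nm_V hi hF hd hF hd h4
    have e3 : X (ρ (V (dR.getD x (0, [])).2) (prV ρ u a)) = c • ρ (V (dR.getD x (0, [])).2) (prV ρ u a) := by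
      rw [hL a, map_add, map_smul, map_smul, b, b, smul_add, smul_comm, smul_comm (L 1 a)]
    rw [h3, apply_V_append, hX _ h5, e3, map_smul]
  intro v
  rw [this]; rfl

include hi hF hd hF' hd' in
/-- **Uniqueness of the traces.** -/
theorem trace_unique (g : Y) : LinearMap.trace K M (ρ g) = LinearMap.trace K M' (τ g) := by
  set! h := cmp hi hF hd hF' hd' with hh
  have hS : ∀ k, stM k = true → lt k ∈ Sc ρ τ h := fun k hk => S_le_Sc (stM_mem hi hF hd hF' hd' hk)
  have h3 : lt 3 ∈ Sc ρ τ h := by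
    refine glue (D := {g | ∃ m ∈ dD, g = V m.1}) ?_ ?_
    · intro X hX
      exact irr hi hF hd X (fun m hm v => hX _ ⟨m, hm, rfl⟩ v)
    · rintro _ ⟨m, hm, rfl⟩
      obtain ⟨a1, a2, a3⟩ := dD_spec hm
      refine ⟨V_mem (p := stM) (fun k hk => stM_mem hi hF hd hF' hd' hk) a2, ?_⟩
      rw [a1]
      exact V_mem (p := stM) (fun k hk => stM_mem hi hF hd hF' hd' hk) a3
  have h1 : lt 1 ∈ Sc ρ τ h := by
    rw [← V_one, V_eq b_chk]
    refine V_mem (p := fun k => stM k || Nat.beq k 3) (fun k hk => ?_) (by decide)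
    rw [Bool.or_eq_true] at hk
    rcases hk with hk | hk
    · exact hS k hk
    · have := Nat.eq_of_beq_eq_true hk; subst this; exact h3
  have htop : Sc ρ τ h = ⊤ := by
    refine eq_top_of_gens ?_ (hS 7 (by decide))
    intro x
    cases x
    · exact hS 0 (by decide)
    · exact h1
    · exact hS 2 (by decide)
    · exact h3
    · exact hS 4 (by decide)
    · exact hS 5 (by decide)
    · exact hS 6 (by decide)
  exact trace_eq perfect_Y htop g

end

end Cfsg.Agent.H878.Sz.N
end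

-- part: H878/Sz/MainP3
section
/-!
# Cores with socle `Suz` in degree at most 12, characteristic 3 (helper878)

`core_Suz_three` : `card ι = 12`, `-1 ∈ P`, `SD P`, `Fr P 3`, `FixA P`, not `FixQ P`.
-/

set_option autoImplicit false
set_option maxRecDepth 100000

namespace Cfsg.Agent.H878.Sz

open Cfsg Cfsg.Spor Cfsg.Geo Cfsg.Agent.H58.SuzRep Cfsg.Agent.H915.LD Module Matrix

universe u

seal _root_.Nat.mod _root_.List.foldr in
theorem q_a : q (N.lt 0) ≠ 1 := by
  intro h
  obtain ⟨n, hn⟩ := exists_pow_of_ker h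
  have hc : ∀ y : Y, N.lt 0 * y = y * N.lt 0 := by
    intro y
    rw [hn]
    exact (((commute_iff_eq _ _).2 (z_central y)).pow_left n).eq
  have h10 : N.lt 10 = N.lt 0 := by
    have h1 : N.V [10, 8] = N.V [8, 0] := N.V_eq (by decide +kernel)
    simp only [N.V_cons, N.V_nil, mul_one] at h1
    rw [← hc] at h1
    exact mul_right_cancel h1
  have h2 : N.lt 2 = 1 := by
    have h1 : N.V [10, 6] = N.V [6, 2, 10] := N.V_eq (by decide +kernel)
    simp only [N.V_cons, N.V_nil, mul_one, h10] at h1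
    rw [hc] at h1
    have h3 := mul_left_cancel h1
    exact (mul_right_cancel (h3.symm.trans (one_mul _).symm))
  have h5 : N.lt 5 = 1 := by
    have h1 : N.V [5, 8] = N.V [8, 2] := N.V_eq (by decide +kernel)
    simp only [N.V_cons, N.V_nil, mul_one, h2] at h1
    exact mul_right_cancel (h1.trans (one_mul _).symm)
  have h1 : N.V [0, 8] = N.V [8, 5, 10, 7, 7, 7] := N.V_eq (by decide +kernel)
  simp only [N.V_cons, N.V_nil, mul_one, h5, h10, one_mul] at h1
  rw [hc] at h1
  have h3 := mul_left_cancel h1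
  have h4 : z ^ 3 = 1 := by
    have h6 : N.lt 0 * (N.lt 7 * (N.lt 7 * N.lt 7)) = N.lt 0 * 1 := by rw [mul_one]; exact h3.symm
    have h7 := mul_left_cancel h6
    have h8 : z * (z * z) = 1 := h7
    rw [pow_succ, pow_two, mul_assoc]; exact h8
  have h6 := orderOf_dvd_of_pow_eq_one h4
  rw [orderOf_z] at h6
  omega

section

variable {ι : Type} [Fintype ι] [DecidableEq ι] {K : Type u} [Field K] [CharP K 3] {i : K}

/-- no invariant symmetric form -/
theorem no_sym (hi : i ^ 2 = -1) {m : Y →* Matrix ι ι K} (hd : finrank K (ι → K) = 12) {u : ι → K}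
    (hF : N.Fr (ofMat m) i u) {J : Matrix ι ι K} (hs : Jᵀ = J) (hm : ∀ g, (m g)ᵀ * J * m g = J) (hdet : J.det ≠ 0) :
    False := by
  have h2 := N.two_ne K
  have hi0 : i ≠ 0 := by rintro rfl; norm_num at hi
  set! B : (ι → K) → (ι → K) → K := fun x y => x ⬝ᵥ (J *ᵥ y) with hB
  have inv : ∀ g x y, B (ofMat m g x) (ofMat m g y) = B x y := by
    intro g x y
    rw [hB]
    simp only [ofMat_apply]
    have : x ⬝ᵥ (((m g)ᵀ * J * m g) *ᵥ y) = (m g *ᵥ x) ⬝ᵥ (J *ᵥ (m g *ᵥ y)) := by
      rw [← Matrix.mulVec_mulVec, ← Matrix.mulVec_mulVec, Matrix.dotProduct_mulVec x, Matrix.vecMul_transpose]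
    rw [← this, hm]
  have sym : ∀ x y, B x y = B y x := by
    intro x y
    rw [hB]
    simp only
    rw [Matrix.dotProduct_mulVec, dotProduct_comm, ← Matrix.mulVec_transpose, hs]
  have sl : ∀ (c : K) x y, B (c • x) y = c * B x y := by
    intro c x y; rw [hB]; simp only; rw [smul_dotProduct, smul_eq_mul]
  have sr : ∀ (c : K) x y, B x (c • y) = c * B x y := by
    intro c x y; rw [sym, sl, sym]
  have key : ∀ x a, B u (N.vec (ofMat m) u x a) = 0 := by
    intro x a
    by_cases hx : x = 1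
    · subst hx
      rw [N.vec_one]
      fin_cases a
      · show B u u = 0
        have h1 := inv (N.lt 4) u u
        rw [hF.e, sl, sr, ← mul_assoc, ← pow_two, hi] at h1
        have h3 : 2 * B u u = 0 := by linear_combination -h1
        rcases mul_eq_zero.1 h3 with h | h
        · exact absurd h h2
        · exact h
      · show B u (ofMat m (N.lt 11) u) = 0
        have h1 := inv (N.lt 11) u (ofMat m (N.lt 11) u)
        rw [N.j_j hF.z, sym, ← neg_one_smul K u, sl] at h1
        have h3 : 2 * B u (ofMat m (N.lt 11) u) = 0 := by linear_combination -h1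
        rcases mul_eq_zero.1 h3 with h | h
        · exact absurd h h2
        · exact h
    · have hne := fun e => hx ((N.chi6 h2) e)
      obtain ⟨j, hj⟩ := Function.ne_iff.1 hne
      have h1 := inv (N.lt (N.ks.getD j 0)) u (N.vec (ofMat m) u x a)
      have h3 : ofMat m (N.lt (N.ks.getD j 0)) u = (-1 : K) ^ N.E (N.ks.getD j 0) (N.wR 1) • u := by
        have := N.vec_wt hF 1 0 j
        rwa [N.vec_one] at this
      rw [h3, N.vec_wt hF x a j, sl, sr] at h1
      have h4 : ∀ n : ℕ, (-1 : K) ^ n = 1 ∨ (-1 : K) ^ n = -1 := fun n => neg_one_pow_eq_or K n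
      have h5 : 2 * B u (N.vec (ofMat m) u x a) = 0 := by
        rcases h4 (N.E (N.ks.getD j 0) (N.wR 1)) with e1 | e1 <;>
          rcases h4 (N.E (N.ks.getD j 0) (N.wR x)) with e2 | e2
        · exact (hj (e2.trans e1.symm)).elim
        · rw [e1, e2] at h1; linear_combination -h1
        · rw [e1, e2] at h1; linear_combination -h1
        · exact (hj (e2.trans e1.symm)).elim
      rcases mul_eq_zero.1 h5 with h | h
      · exact absurd h h2
      · exact h
  have hz : ∀ y, B u y = 0 := by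
    intro y
    let T : (ι → K) →ₗ[K] K :=
      { toFun := fun y => y ⬝ᵥ (J *ᵥ u)
        map_add' := fun x y => add_dotProduct x y _
        map_smul' := fun c x => smul_dotProduct c x _ }
    have h1 : T = 0 := by
      apply (N.bas h2 hi hF hd).ext
      rintro ⟨x, a⟩
      rw [N.bas_apply, LinearMap.zero_apply]
      have := key x a
      rw [sym] at this
      exact this
    have h3 := LinearMap.congr_fun h1 y
    rw [LinearMap.zero_apply] at h3
    rw [sym]
    exact h3
  have hJu : J *ᵥ u = 0 := by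
    funext k
    have := hz (Pi.single k 1)
    rw [sym, hB] at this
    simpa only [_root_.Pi.zero_apply, _root_.single_dotProduct, _root_.one_mul] using this
  exact hdet (Matrix.exists_mulVec_eq_zero_iff.1 ⟨u, hF.ne, hJu⟩)

end

variable {ι : Type} [Fintype ι] [DecidableEq ι] {F : Type u} [Field F] {P : Subgroup (GL ι F)}

theorem exists_i (K : Type u) [Field K] [IsAlgClosed K] : ∃ i : K, i ^ 2 = -1 := by
  obtain ⟨x, hx⟩ := IsAlgClosed.exists_pow_nat_eq (-1 : K) (n := 2) (by norm_num)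
  exact ⟨x, hx⟩

/-- **Cores with socle `Suz`, characteristic 3.** -/
theorem core_Suz_three [Finite F] (hC : Core P) (e : Soc P ≃* Suz) (hn : Fintype.card ι ≤ 12) [CharP F 3] :
    Fintype.card ι = 12 ∧ (∃ g ∈ P, (g : Matrix ι ι F) = (-1 : F) • (1 : Matrix ι ι F)) ∧ SD P ∧
      Cfsg.Agent.H915.LD.Fr P 3 ∧ FixA P ∧ ¬ FixQ P := by
  have : Fact (Nat.Prime 3) := ⟨Nat.prime_three⟩
  have := hC.nonempty
  obtain ⟨φ, hφs, hφ⟩ := exists_cov hC e
  let K := AlgebraicClosure F
  have : CharP K 3 := charP_of_injective_algebraMap (algebraMap F K).injective 3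
  obtain ⟨c, hc⟩ := exists_scalar hφ
  have hfr : finrank K (ι → K) = Fintype.card ι := Module.finrank_fintype_fun_eq_card K
  obtain ⟨i, hi⟩ := exists_i K
  have hz := matOf_z (K := K) hc
  have hne := matOf_ne_one (K := K) hφ q_a
  have frame' : ∀ (m : Y →* Matrix ι ι K) (ζ : K), m z = ζ • (1 : Matrix ι ι K) → m (N.lt 0) ≠ 1 →
      finrank K (ι → K) = 12 ∧ ∃ v, N.Fr (ofMat m) i v := by
    intro m ζ h1 h2
    exact N.frame (by rw [hfr]; exact hn) (ofMat_z h1) hi (ofMat_ne_one h2)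
  obtain ⟨hd, v, hF⟩ := frame' _ _ hz hne
  have hc1 : c = -1 := by
    apply (algebraMap F K).injective
    rw [map_neg, map_one]
    have h1 := hF.z v
    have h2 : ofMat (matOf K φ) (N.lt 7) v = algebraMap F K c • v := ofMat_z hz v
    rw [h2] at h1
    have h3 : (algebraMap F K c - -1) • v = 0 := by rw [sub_smul, h1, neg_one_smul, sub_self]
    rcases smul_eq_zero.1 h3 with h | h
    · exact sub_eq_zero.1 h
    · exact absurd h hF.ne
  have hc0 : algebraMap F K c ≠ 0 := by
    rw [hc1, map_neg, map_one]; exact neg_ne_zero.2 one_ne_zero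
  have hSD : SD P := by
    intro g hg
    obtain ⟨y, hy⟩ := hφs ⟨g, hg⟩
    obtain ⟨hd', v', hF'⟩ := frame' _ _ (dual_z hz hc0) (dual_ne_one hne)
    have h2 := N.trace_unique hi hF hd hF' hd' y
    rw [trace_ofMat, trace_ofMat, trace_dual, trace_matOf, trace_matOf, hy, map_inv, hy] at h2
    exact ((algebraMap F K).injective h2).symm
  have hFr : Cfsg.Agent.H915.LD.Fr P 3 := by
    intro g hg
    obtain ⟨y, hy⟩ := hφs ⟨g, hg⟩
    obtain ⟨hd', v', hF'⟩ := frame' _ _ (frob_z 3 hz) (frob_ne_one 3 hne)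
    have h2 := N.trace_unique hi hF hd hF' hd' y
    rw [trace_ofMat, trace_ofMat, trace_frob, trace_matOf, hy, ← map_pow] at h2
    exact ((algebraMap F K).injective h2).symm
  have hQ : ¬ FixQ P := by
    rintro ⟨Q, hQ, hfix⟩
    have hinv : ∀ g ∈ P, ∀ x y, QuadraticMap.polar Q ((g : Matrix ι ι F) *ᵥ x) ((g : Matrix ι ι F) *ᵥ y) =
        QuadraticMap.polar Q x y := by
      intro g hg x y
      have hmem : (g : Matrix ι ι F) ∈ matrixSet P := ⟨g, hg, rfl⟩
      rw [QuadraticMap.polar, QuadraticMap.polar, ← Matrix.mulVec_add, hfix _ hmem, hfix _ hmem, hfix _ hmem]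
    set! G := H920.gram (QuadraticMap.polar Q) with hG
    have hGt : Gᵀ = G := by
      ext a b
      rw [Matrix.transpose_apply, hG, H920.gram, Matrix.of_apply, Matrix.of_apply, QuadraticMap.polar_comm]
    refine no_sym hi hd hF (J := G.map (algebraMap F K)) ?_ ?_ ?_
    · rw [← Matrix.transpose_map, hGt]
    · intro g
      rw [matOf_apply, ← Matrix.transpose_map, ← Matrix.map_mul, ← Matrix.map_mul]
      rw [hG, H920.gram_invariant hQ.polar_bilinear (hinv _ (φ g).2)]
    · rw [← RingHom.mapMatrix_apply, ← RingHom.map_det]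
      intro h
      exact H920.gram_det_ne hQ.polar_bilinear hQ.nondegenerate
        ((algebraMap F K).injective (by rw [h, map_zero]))
  refine ⟨by rw [← hfr]; exact hd, ⟨_, (φ z).2, by rw [hc, hc1]⟩, hSD, hFr, ?_, hQ⟩
  exact (hC.forms_of_sd hSD).resolve_left hQ

end Cfsg.Agent.H878.Sz
end

private theorem dce_05b8ecc4fac9 : _root_.True := by
  try have : _root_.True := by simp only [_root_.Cfsg.Agent.H878.Sz.N.sumE.eq_1]
  try have : _root_.True := by simp only [_root_.Cfsg.Agent.H878.Sz.N.vec.eq_1]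
  try have : _root_.True := by simp only [_root_.Cfsg.Agent.H878.Sz.N.wts.eq_1]
  try have : _root_.True := by simp only [_root_.Cfsg.Agent.H878.Sz.N.Lw.eq_1]
  try have : _root_.True := by simp only [_root_.Cfsg.Agent.H878.Sz.N.ks.eq_1]
  try have : _root_.True := by simp only [_root_.Cfsg.Agent.H878.Sz.N.Ee.eq_1]
  try have : _root_.True := by simp only [_root_.Cfsg.Agent.H878.Sz.N.cmp.eq_1]
  try have : _root_.True := by simp only [_root_.Cfsg.Agent.H878.Sz.N.Jj.eq_1]
  try have : _root_.True := by simp only [_root_.Cfsg.Agent.H878.Sz.N.prV.eq_1]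
  exact _root_.True.intro
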