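import Cfsg.Agent.H878.Sz.Cov
import Mathlib
import Cfsg.Agent.H906.Cover_m3
import Cfsg.Agent.FastGrp
import Cfsg.Agent.Prune
set_option linter.all false
prune_inst 0x7ffcbdfbabf8a9dfffff7e7fa6decffdf9bdbfffa6dff9fbffe061ff2b9ffb0ac9c56b8defea11fe0e97c21c18f87b53fffefeffea6bfc7ffffdfff41ffbffcffdf7b50871de8cbe0fbc2ff783f0778e7f3fffffffffffffffffffffffffffbeffbfffffffff
open scoped Cfsg.Agent.FastGrp

-- part: H878/Sz/ThreeData
section
/-!
# Words in the sixfold cover of `Suz`: the monomial subgroup `2 × 3^6 : M₁₁` (helper878)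

Letters: `0..6 = a..g`, `7 = z` (scalar 3), `8 = y` (order 11), `9 = y⁻¹`, `10..14 = a₀..a₄` (`a_i = y^i a₀ y^-i`, order 3).
-/

set_option autoImplicit false
set_option maxRecDepth 100000

namespace Cfsg.Agent.H878.Sz

open Cfsg Cfsg.Spor Cfsg.Agent.H58.SuzRep Cfsg.Agent.Lib.PackMat

/-- packed matrix -/
def cY : ℕ := 0x10010040000000008020100000004008000080200000008040080000004000050000500c05000050000601800008000100000001010020040000004000060000501803018000000301800004000100001000004040100000004008000080000000004020100001001010000080000000004010040200004000030140300c060000000003018000000500006018060000000c0501800000060000500c06000000000501405014060000301405000000000501800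
/-- packed matrix -/
def cYi : ℕ := 0x4020000200004008010000000001014000140000c00000000180500c03010020000100001008020040000000000060140001400000000180301406000000180000c030000001803018050000001405018000000000c0300c050080200001008040100400000000000080100402000010080400000000000040200004000010040400004000000000000c00018000000601805014050000000c0000c0000c0000c0301403004010000100001010010000000400
/-- packed matrix -/
def cA0 : ℕ := 0x80300c0600c0500c03018050080500c0000c020040500403018050180500c030000200c0500c0300805018040140401000014020140500c0600c0600c0100c060000500c03018040180401806018040180001802014010140300c0100c0600c0500001008050180500c0300c0600c04004000180501804014050100301406010050000200c060180601805008010180601000014030100501403014060140500c0600806018060080500803018020140301400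
/-- packed matrix -/
def cA1 : ℕ := 0x1006000000180000c060000001405004060080100001000000040100000000030100001400014050000001405000060000401400018030000001406004000100401801000000100200000000060000001804014050000000c06008000100100004018000100100000004000100200004000060040400000000060000001400014060100001803000060000000c00018050000401805010000100400002000000040101800010000100100001000000080400006
/-- packed matrix -/
def cA2 : ℕ := 0xc0200c04010050040200801008030040301005004020080401002018060140400c050040200c0401002010040100300c03010010040200805008020100200804004010040200c010080200c01004020080301001004060140100801014020080400c05004040140100404010010040200c03010030100600404010010140200804004020100400801004030080601005004030040100406010010040300c040100200c04014060100100402008060100201003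
/-- packed matrix -/
def cA3 : ℕ := 0xc0100804010040040500c0301004008030040200802018040040500c020040200401014010080201004004010100100803010060040100c02018040100100c040040400401008020100401001008060100300401008030100600806004020080200c04014010080300c040040200802010030040100c0301402010050040100c0200c0400401014030100100405008020100300401010050080601004004050080200c04010010080401006014050080201003
/-- packed matrix -/
def cA4 : ℕ := 0xc04014050040400405010010100401001004010040400401018010100400c0200c040100201004008060080300c020100301803010040080400802008020100600c02010040080400c0301004004050040301401010050100400802010040100300c06008040080300c020100401002018030080400c02010060040100404004010040101004008020180401003010040080300c02010040040101404004050100500c04010040140101404014010100101003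
/-- packed matrix -/
def cZ : ℕ := 0xc0000000000000000000000000000000300000000000000000000000000000000c0000000000000000000000000000000300000000000000000000000000000000c0000000000000000000000000000000300000000000000000000000000000000c0000000000000000000000000000000300000000000000000000000000000000c0000000000000000000000000000000300000000000000000000000000000000c00000000000000000000000000000003

/-- codes of the base letters -/
def cdB : ℕ → ℕ
  | 0 => mA
  | 1 => mB
  | 2 => mC
  | 3 => mD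
  | 4 => mE
  | 5 => mF
  | 6 => mG
  | _ => cZ

/-- base letters -/
def base : ℕ → Y
  | 0 => s .a
  | 1 => s .b
  | 2 => s .c
  | 3 => s .d
  | 4 => s .e
  | 5 => s .f
  | 6 => s .g
  | _ => z

/-- the code `c` represents `g` -/
structure Cd (g : Y) (c : ℕ) : Prop where
  ok : okG C12 c = true
  val : mk c = ((g : M12ˣ) : M12)

theorem okZ : okG C12 cZ = true := by decide +kernel

theorem mkZ : mk cZ = (3 : ZMod 7) • (1 : M12) := by
  have h := prod_scalar (c := 3) (by decide) (w := [cZ])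
    (fun g hg => by rw [List.mem_singleton] at hg; rw [hg]; exact okZ) (by decide +kernel)
  simp only [List.map_cons, List.map_nil, List.prod_cons, List.prod_nil, mul_one] at h
  exact h

theorem cd_s (x : Suz.Gen) : Cd (s x) (code x) := ⟨ok_code x, rfl⟩

theorem cd_base : ∀ k, Cd (base k) (cdB k)
  | 0 => cd_s .a
  | 1 => cd_s .b
  | 2 => cd_s .c
  | 3 => cd_s .d
  | 4 => cd_s .e
  | 5 => cd_s .f
  | 6 => cd_s .g
  | _ + 7 => ⟨okZ, by rw [show cdB _ = cZ from rfl, mkZ]; exact coe_z.symm⟩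

theorem cd_prod {L : List Y} {C : List ℕ} (h : List.Forall₂ Cd L C) :
    (C.map mk).prod = ((L.prod : M12ˣ) : M12) ∧ ∀ c ∈ C, okG C12 c = true := by
  induction h with
  | nil => exact ⟨rfl, by simp⟩
  | cons h1 _ ih =>
    refine ⟨?_, ?_⟩
    · rw [List.map_cons, List.prod_cons, List.prod_cons, ih.1, h1.val, Subgroup.coe_mul, Units.val_mul]
    · intro c hc
      rcases List.mem_cons.1 hc with rfl | hc
      · exact h1.ok
      · exact ih.2 c hc

theorem prod_eq_of_cd {L L' : List Y} {C C' : List ℕ} (h : List.Forall₂ Cd L C) (h' : List.Forall₂ Cd L' C')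
    (hc : checkEq C12 C C' 0 12 = true) : L.prod = L'.prod := by
  apply Subtype.ext
  apply Units.ext
  rw [← (cd_prod h).1, ← (cd_prod h').1]
  exact prod_eq (cd_prod h).2 (cd_prod h').2 hc

theorem forall₂_map {f : ℕ → Y} {g : ℕ → ℕ} (h : ∀ k, Cd (f k) (g k)) : ∀ w : List ℕ,
    List.Forall₂ Cd (w.map f) (w.map g)
  | [] => List.Forall₂.nil
  | k :: w => List.Forall₂.cons (h k) (forall₂_map h w)

/-- a code from a product -/
theorem cd_of_prod {L : List Y} {C : List ℕ} {c : ℕ} (h : List.Forall₂ Cd L C) (hok : okG C12 c = true)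
    (hc : checkEq C12 [c] C 0 12 = true) : Cd L.prod c := by
  refine ⟨hok, ?_⟩
  rw [← (cd_prod h).1]
  have h1 := prod_eq (v := [c]) (w := C)
    (fun g hg => by rw [List.mem_singleton] at hg; rw [hg]; exact hok) (cd_prod h).2 hc
  simpa only [List.map_cons, List.map_nil, List.prod_cons, List.prod_nil, mul_one] using h1

theorem cd_inv {g : Y} {c c' : ℕ} (h : Cd g c) (hok : okG C12 c' = true)
    (hc : checkScalar C12 [c, c'] 1 0 12 = true) : Cd g⁻¹ c' := by
  refine ⟨hok, ?_⟩
  have h1 := prod_scalar (c := 1) (by decide) (w := [c, c'])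
    (fun g hg => by
      rcases List.mem_cons.1 hg with rfl | hg
      · exact h.ok
      · rw [List.mem_singleton] at hg; rw [hg]; exact hok) hc
  simp only [List.map_cons, List.map_nil, List.prod_cons, List.prod_nil, mul_one, Nat.cast_one, one_smul] at h1
  rw [h.val] at h1
  rw [Subgroup.coe_inv, ← Units.inv_mul_cancel_left (g : M12ˣ) (mk c'), h1, mul_one]

/-- word of `y` -/
def wy : List ℕ := [7, 7, 7, 7, 7, 6, 3, 4, 2, 3, 2, 1, 5, 6, 2, 3, 4, 2, 3, 1, 2, 6, 5, 4, 3, 2, 1, 2, 1, 3, 2, 4, 3, 2, 6, 5,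
    1, 2, 3, 2, 4, 3, 6]
/-- word of `a₀` -/
def wa : List ℕ := [7, 6, 3, 4, 2, 3, 2, 1, 5, 6, 2, 3, 4, 2, 3, 1, 2, 2, 1, 6, 5, 3, 4, 2, 3, 1, 2, 3, 4, 1, 2, 3, 2, 3, 1, 2,
    3, 2, 3, 1, 2, 3, 2, 3, 1, 2, 3, 2, 3, 1, 2, 3, 2, 3, 4, 3, 2, 1, 3, 2, 4, 3, 5, 6, 1, 2, 2, 1, 3, 2, 4, 3, 2,
    6, 5, 1, 2, 3, 2, 4, 3, 6]

/-- the element of order 11 -/
def ly : Y := (wy.map base).prod
/-- the element `a₀` of order 3 -/
def la : ℕ → Y
  | 0 => (wa.map base).prod
  | n + 1 => [ly, la n, ly⁻¹].prod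

theorem cd_ly : Cd ly cY := cd_of_prod (forall₂_map cd_base wy) (by decide +kernel) (by decide +kernel)
theorem cd_lyi : Cd ly⁻¹ cYi := cd_inv cd_ly (by decide +kernel) (by decide +kernel)
theorem cd_la0 : Cd (la 0) cA0 := cd_of_prod (forall₂_map cd_base wa) (by decide +kernel) (by decide +kernel)

theorem cd_step {n c c' : ℕ} (h : Cd (la n) c) (hok : okG C12 c' = true)
    (hc : checkEq C12 [c'] [cY, c, cYi] 0 12 = true) : Cd (la (n + 1)) c' :=
  cd_of_prod (L := [ly, la n, ly⁻¹]) (C := [cY, c, cYi])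
    (List.Forall₂.cons cd_ly (List.Forall₂.cons h (List.Forall₂.cons cd_lyi List.Forall₂.nil))) hok hc

theorem cd_la1 : Cd (la 1) cA1 := cd_step cd_la0 (by decide +kernel) (by decide +kernel)
theorem cd_la2 : Cd (la 2) cA2 := cd_step cd_la1 (by decide +kernel) (by decide +kernel)
theorem cd_la3 : Cd (la 3) cA3 := cd_step cd_la2 (by decide +kernel) (by decide +kernel)
theorem cd_la4 : Cd (la 4) cA4 := cd_step cd_la3 (by decide +kernel) (by decide +kernel)

/-- letters -/
def letter : ℕ → Y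
  | 0 => s .a
  | 1 => s .b
  | 2 => s .c
  | 3 => s .d
  | 4 => s .e
  | 5 => s .f
  | 6 => s .g
  | 7 => z
  | 8 => ly
  | 9 => ly⁻¹
  | 10 => la 0
  | 11 => la 1
  | 12 => la 2
  | 13 => la 3
  | _ => la 4

/-- codes of the letters -/
def cd : ℕ → ℕ
  | 0 => mA
  | 1 => mB
  | 2 => mC
  | 3 => mD
  | 4 => mE
  | 5 => mF
  | 6 => mG
  | 7 => cZ
  | 8 => cY
  | 9 => cYi
  | 10 => cA0
  | 11 => cA1
  | 12 => cA2
  | 13 => cA3
  | _ => cA4

theorem cd_letter : ∀ k, Cd (letter k) (cd k)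
  | 0 => cd_s .a
  | 1 => cd_s .b
  | 2 => cd_s .c
  | 3 => cd_s .d
  | 4 => cd_s .e
  | 5 => cd_s .f
  | 6 => cd_s .g
  | 7 => cd_base 7
  | 8 => cd_ly
  | 9 => cd_lyi
  | 10 => cd_la0
  | 11 => cd_la1
  | 12 => cd_la2
  | 13 => cd_la3
  | _ + 14 => cd_la4

/-- words -/
def W (w : List ℕ) : Y := (w.map letter).prod

theorem W_nil : W [] = 1 := rfl
theorem W_cons (k : ℕ) (w : List ℕ) : W (k :: w) = letter k * W w := by
  unfold W; rw [List.map_cons, List.prod_cons]
theorem W_append (u v : List ℕ) : W (u ++ v) = W u * W v := by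
  unfold W; rw [List.map_append, List.prod_append]
theorem W_one (k : ℕ) : W [k] = letter k := by rw [W_cons, W_nil, mul_one]

/-- equality test -/
noncomputable def eqW (u v : List ℕ) : Bool := checkEq C12 (u.map cd) (v.map cd) 0 12

theorem W_eq {u v : List ℕ} (h : eqW u v = true) : W u = W v :=
  prod_eq_of_cd (forall₂_map cd_letter u) (forall₂_map cd_letter v) h

/-- coset representatives -/
def rep : ℕ → List ℕ
  | 0 => [1]
  | 1 => [8, 1]
  | 2 => [8, 8, 1]
  | 3 => [8, 8, 8, 1]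
  | 4 => [8, 8, 8, 8, 1]
  | 5 => [8, 8, 8, 8, 8, 1]
  | 6 => [8, 8, 8, 8, 8, 8, 1]
  | 7 => [8, 8, 8, 8, 8, 8, 8, 1]
  | 8 => [8, 8, 8, 8, 8, 8, 8, 8, 1]
  | 9 => [8, 8, 8, 8, 8, 8, 8, 8, 8, 1]
  | 10 => [8, 8, 8, 8, 8, 8, 8, 8, 8, 8, 1]
  | _ => []

/-- transitions -/
def tabY : List (ℕ × List ℕ) := [(1, []), (2, []), (3, []), (4, []), (5, []), (6, []), (7, []), (8, []), (9, []), (10, []), (0, []), (11,
    [8])]
/-- transitions -/
def tabB : List (ℕ × List ℕ) := [(11, []), (1, [9, 9, 9, 9, 2, 8, 8, 8, 8, 12, 12, 14]), (10, [9, 9, 9, 9, 9, 2, 8, 8, 8, 8, 12, 12, 14, 7, 7,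
    7, 7]), (7, [8, 2, 8, 8, 8, 2, 9, 11, 13, 13, 7, 7]), (6, [8, 8, 2, 9, 9, 9, 10, 10, 12, 12, 13, 13, 14, 7, 7,
    7, 7]), (5, [2, 8, 2, 8, 2, 8, 11, 11, 13, 13, 14, 14]), (4, [8, 8, 8, 2, 9, 9, 12, 12, 13, 13, 14, 7, 7]),
    (3, [2, 8, 8, 8, 2, 9, 9, 10, 10, 11, 12, 12, 13, 13, 14, 7, 7, 7, 7]), (8, [9, 2, 8, 2, 9, 2, 9, 2, 8, 8, 11,
    12, 12, 14]), (9, [9, 9, 2, 9, 2, 8, 8, 8, 8, 8, 10, 11, 11, 12, 13, 14, 14]), (2, [9, 9, 9, 9, 2, 8, 8, 8, 8,
    8, 11, 11, 13, 7, 7]), (0, [])]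
/-- transitions -/
def tabC : List (ℕ × List ℕ) := [(9, [9, 9, 2, 8, 8, 2, 9, 2, 11, 12, 7, 7, 7, 7]), (1, [2, 9, 2, 8, 2, 10, 13, 13, 14]), (5, [9, 2, 9, 2, 8,
    8, 8, 8, 8, 10, 10, 14, 14]), (8, [9, 2, 9, 2, 8, 8, 8, 8, 2, 8, 10, 11, 14, 7, 7, 7, 7]), (6, [9, 9, 2, 8, 8,
    2, 9, 9, 9, 11, 13, 14, 7, 7]), (2, [9, 9, 2, 9, 2, 8, 8, 8, 8, 10, 11, 11, 13, 14]), (4, [8, 8, 8, 2, 9, 9,
    2, 8, 8, 10, 10, 11, 11, 12, 12, 14, 14, 7, 7, 7, 7]), (7, [2, 9, 2, 8, 2, 8, 2, 9, 10, 13, 13, 14]), (3, [2,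
    8, 2, 8, 2, 8, 8, 8, 8, 8, 10, 10, 11, 11, 14, 7, 7]), (0, [2, 8, 2, 9, 9, 2, 8, 8, 10, 10, 11, 11, 14, 7,
    7]), (10, [2, 8, 8, 8, 8, 8, 2, 8, 2, 8, 8, 10, 12, 12, 13, 14, 14]), (11, [2])]
/-- transitions -/
def tabA0 : List (ℕ × List ℕ) := [(0, [10]), (1, [10, 11, 11, 12, 12, 13, 13, 14, 7, 7]), (2, [10, 11, 11, 12, 14, 14, 7, 7]), (3, [10, 10, 12,
    12, 13, 13, 14, 14]), (4, [11, 11, 7, 7]), (5, [10, 10, 11, 11, 12, 13, 13, 7, 7]), (6, [11, 11, 12, 12, 13,
    14, 14, 7, 7]), (7, [13]), (8, [14]), (9, [12]), (10, [10, 10, 11, 11, 13, 14, 7, 7]), (11, [10])]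
/-- transitions -/
def tabA1 : List (ℕ × List ℕ) := [(0, [10, 10, 11, 11, 13, 14, 7, 7]), (1, [10]), (2, [10, 11, 11, 12, 12, 13, 13, 14, 7, 7]), (3, [10, 11, 11,
    12, 14, 14, 7, 7]), (4, [10, 10, 12, 12, 13, 13, 14, 14]), (5, [11, 11, 7, 7]), (6, [10, 10, 11, 11, 12, 13,
    13, 7, 7]), (7, [11, 11, 12, 12, 13, 14, 14, 7, 7]), (8, [13]), (9, [14]), (10, [12]), (11, [11])]
/-- transitions -/
def tabA2 : List (ℕ × List ℕ) := [(0, [12]), (1, [10, 10, 11, 11, 13, 14, 7, 7]), (2, [10]), (3, [10, 11, 11, 12, 12, 13, 13, 14, 7, 7]), (4,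
    [10, 11, 11, 12, 14, 14, 7, 7]), (5, [10, 10, 12, 12, 13, 13, 14, 14]), (6, [11, 11, 7, 7]), (7, [10, 10, 11,
    11, 12, 13, 13, 7, 7]), (8, [11, 11, 12, 12, 13, 14, 14, 7, 7]), (9, [13]), (10, [14]), (11, [12])]
/-- transitions -/
def tabA3 : List (ℕ × List ℕ) := [(0, [14]), (1, [12]), (2, [10, 10, 11, 11, 13, 14, 7, 7]), (3, [10]), (4, [10, 11, 11, 12, 12, 13, 13, 14, 7,
    7]), (5, [10, 11, 11, 12, 14, 14, 7, 7]), (6, [10, 10, 12, 12, 13, 13, 14, 14]), (7, [11, 11, 7, 7]), (8, [10,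
    10, 11, 11, 12, 13, 13, 7, 7]), (9, [11, 11, 12, 12, 13, 14, 14, 7, 7]), (10, [13]), (11, [13])]
/-- transitions -/
def tabA4 : List (ℕ × List ℕ) := [(0, [13]), (1, [14]), (2, [12]), (3, [10, 10, 11, 11, 13, 14, 7, 7]), (4, [10]), (5, [10, 11, 11, 12, 12, 13,
    13, 14, 7, 7]), (6, [10, 11, 11, 12, 14, 14, 7, 7]), (7, [10, 10, 12, 12, 13, 13, 14, 14]), (8, [11, 11, 7,
    7]), (9, [10, 10, 11, 11, 12, 13, 13, 7, 7]), (10, [11, 11, 12, 12, 13, 14, 14, 7, 7]), (11, [14])]

/-- letters fixing the line -/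
def st (k : ℕ) : Bool := Nat.beq k 2 || (Nat.ble 7 k && Nat.ble k 14)

/-- transitions of the word `m` -/
noncomputable def chkM (m : List ℕ) (tab : List (ℕ × List ℕ)) : Bool :=
  (List.range 12).all fun x => eqW (m ++ rep x) (rep (tab.getD x (0, [])).1 ++ (tab.getD x (0, [])).2) &&
    (tab.getD x (0, [])).2.all st && Nat.blt (tab.getD x (0, [])).1 12

theorem chkY : chkM [8] tabY = true := by decide +kernel
theorem chkB : chkM [1] tabB = true := by decide +kernel
theorem chkC : chkM [2] tabC = true := by decide +kernel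
theorem chkA0 : chkM [10] tabA0 = true := by decide +kernel
theorem chkA1 : chkM [11] tabA1 = true := by decide +kernel
theorem chkA2 : chkM [12] tabA2 = true := by decide +kernel
theorem chkA3 : chkM [13] tabA3 = true := by decide +kernel
theorem chkA4 : chkM [14] tabA4 = true := by decide +kernel

end Cfsg.Agent.H878.Sz
end

-- part: H878/Sz/Glue
section
/-!
# Gluing two representations (helper878)

`ρ`, `τ` representations of `G` on `V`, `V'`, `h : V ≃ V'`.

* `S ρ τ h` : the subgroup where `h` intertwines; `Sc` : the same up to scalars;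
* `glue` : `d ∈ Sc`, if `S` contains `m` and `d m d⁻¹` for all `m` in a set acting with scalar commutant;
* `trace_eq` : if `Sc = ⊤` and `G` is perfect, the traces agree;
* `linInd_of_wt`, `smul_of_wt` : vectors with different weights; `exists_wt` : common eigenvectors of commuting operators
  of order dividing 3.
-/

set_option autoImplicit false

namespace Cfsg.Agent.H878.Sz

open Module

section glue

variable {K : Type*} [Field K] {G : Type*} [Group G] {V V' : Type*} [AddCommGroup V] [Module K V]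
  [AddCommGroup V'] [Module K V'] (ρ : Representation K G V) (τ : Representation K G V') (h : V ≃ₗ[K] V')

/-- the subgroup on which `h` intertwines -/
def S : Subgroup G where
  carrier := {m | ∀ v, h (ρ m v) = τ m (h v)}
  mul_mem' := by
    intro a b ha hb v
    rw [map_mul, map_mul, Module.End.mul_apply, Module.End.mul_apply, ha, hb]
  one_mem' := by intro v; simp
  inv_mem' := by
    intro a ha v
    have h1 := ha (ρ a⁻¹ v)
    rw [← Module.End.mul_apply, ← map_mul, mul_inv_cancel, map_one, Module.End.one_apply] at h1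
    rw [h1, ← Module.End.mul_apply, ← map_mul, inv_mul_cancel, map_one, Module.End.one_apply]

/-- the subgroup on which `h` intertwines up to scalars -/
def Sc : Subgroup G where
  carrier := {m | ∃ c : Kˣ, ∀ v, h (ρ m v) = (c : K) • τ m (h v)}
  mul_mem' := by
    rintro a b ⟨c, hc⟩ ⟨d, hd⟩
    refine ⟨c * d, fun v => ?_⟩
    rw [map_mul, map_mul, Module.End.mul_apply, Module.End.mul_apply, hc, hd, map_smul, smul_smul, Units.val_mul]
  one_mem' := ⟨1, by intro v; simp⟩
  inv_mem' := by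
    rintro a ⟨c, hc⟩
    refine ⟨c⁻¹, fun v => ?_⟩
    have h1 := hc (ρ a⁻¹ v)
    rw [← Module.End.mul_apply, ← map_mul, mul_inv_cancel, map_one, Module.End.one_apply] at h1
    rw [h1, map_smul, smul_smul, ← Units.val_mul, inv_mul_cancel, Units.val_one, one_smul,
      ← Module.End.mul_apply, ← map_mul, inv_mul_cancel, map_one, Module.End.one_apply]

variable {ρ τ h}

theorem S_le_Sc : S ρ τ h ≤ Sc ρ τ h := fun _ hm => ⟨1, fun v => by rw [hm v]; simp⟩

theorem mem_S_of_basis {ι : Type*} (b : Basis ι K V) {m : G} (hb : ∀ i, h (ρ m (b i)) = τ m (h (b i))) :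
    m ∈ S ρ τ h := by
  have h1 : h.toLinearMap ∘ₗ ρ m = τ m ∘ₗ h.toLinearMap := b.ext hb
  intro v
  exact LinearMap.congr_fun h1 v

theorem comm_le : ⁅Sc ρ τ h, Sc ρ τ h⁆ ≤ S ρ τ h := by
  rw [Subgroup.commutator_le]
  rintro a ⟨c, hc⟩ b ⟨d, hd⟩ v
  have ha : ∀ v, h (ρ a⁻¹ v) = (c⁻¹ : Kˣ) • τ a⁻¹ (h v) := by
    intro v
    have h1 := hc (ρ a⁻¹ v)
    rw [← Module.End.mul_apply, ← map_mul, mul_inv_cancel, map_one, Module.End.one_apply] at h1
    rw [h1, map_smul, Units.smul_def, smul_smul, ← Units.val_mul, inv_mul_cancel, Units.val_one, one_smul,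
      ← Module.End.mul_apply, ← map_mul, inv_mul_cancel, map_one, Module.End.one_apply]
  have hb : ∀ v, h (ρ b⁻¹ v) = (d⁻¹ : Kˣ) • τ b⁻¹ (h v) := by
    intro v
    have h1 := hd (ρ b⁻¹ v)
    rw [← Module.End.mul_apply, ← map_mul, mul_inv_cancel, map_one, Module.End.one_apply] at h1
    rw [h1, map_smul, Units.smul_def, smul_smul, ← Units.val_mul, inv_mul_cancel, Units.val_one, one_smul,
      ← Module.End.mul_apply, ← map_mul, inv_mul_cancel, map_one, Module.End.one_apply]
  rw [commutatorElement_def]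
  simp only [map_mul, Module.End.mul_apply]
  rw [hc, hd, ha, hb]
  simp only [Units.smul_def, map_smul, smul_smul]
  have e : (c : K) * d * ((c⁻¹ : Kˣ) : K) * ((d⁻¹ : Kˣ) : K) = 1 := by
    rw [← Units.val_mul, ← Units.val_mul, ← Units.val_mul]
    have : c * d * c⁻¹ * d⁻¹ = 1 := by rw [mul_comm c d, mul_assoc d c, mul_inv_cancel, mul_one, mul_inv_cancel]
    rw [this, Units.val_one]
  first
    | rw [e, one_smul]
    | (rw [show (c : K) * ((d : K) * (((c⁻¹ : Kˣ) : K) * ((d⁻¹ : Kˣ) : K))) = 1 by rw [← e]; ring, one_smul])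

/-- **Gluing.** -/
theorem glue {D : Set G} {d : G}
    (hirr : ∀ X : V →ₗ[K] V, (∀ m ∈ D, ∀ v, X (ρ m v) = ρ m (X v)) → ∃ c : K, ∀ v, X v = c • v)
    (hD : ∀ m ∈ D, m ∈ S ρ τ h ∧ d * m * d⁻¹ ∈ S ρ τ h) : d ∈ Sc ρ τ h := by
  obtain ⟨c, hc⟩ := hirr (h.symm.toLinearMap ∘ₗ τ d⁻¹ ∘ₗ h.toLinearMap ∘ₗ ρ d) (by
    intro m hm v
    obtain ⟨h1, h2⟩ := hD m hm
    show h.symm (τ d⁻¹ (h (ρ d (ρ m v)))) = ρ m (h.symm (τ d⁻¹ (h (ρ d v))))
    have e1 : ρ d (ρ m v) = ρ (d * m * d⁻¹) (ρ d v) := by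
      rw [← Module.End.mul_apply, ← Module.End.mul_apply, ← map_mul, ← map_mul, inv_mul_cancel_right]
    rw [e1, h2]
    have e2 : τ d⁻¹ (τ (d * m * d⁻¹) (h (ρ d v))) = τ m (τ d⁻¹ (h (ρ d v))) := by
      rw [← Module.End.mul_apply, ← Module.End.mul_apply, ← map_mul, ← map_mul]
      congr 2
      group
    rw [e2]
    apply h.injective
    rw [h.apply_symm_apply, h1, h.apply_symm_apply])
  have key : ∀ v, h (ρ d v) = c • τ d (h v) := by
    intro v
    have h1 : h.symm (τ d⁻¹ (h (ρ d v))) = c • v := hc v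
    have h2 : τ d⁻¹ (h (ρ d v)) = c • h v := by
      rw [← map_smul, ← h1, h.apply_symm_apply]
    rw [← map_smul, ← h2, ← Module.End.mul_apply, ← map_mul, mul_inv_cancel, map_one, Module.End.one_apply]
  by_cases hc0 : c = 0
  · refine ⟨1, fun v => ?_⟩
    have hz : ∀ v : V, v = 0 := by
      intro v
      have h1 := key (ρ d⁻¹ v)
      rw [hc0, zero_smul, ← Module.End.mul_apply, ← map_mul, mul_inv_cancel, map_one, Module.End.one_apply] at h1
      exact h.injective (by rw [h1, map_zero])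
    rw [hz v]; simp
  · exact ⟨Units.mk0 c hc0, key⟩

theorem S_eq_top (hG : commutator G = ⊤) (hS : Sc ρ τ h = ⊤) : S ρ τ h = ⊤ := by
  rw [eq_top_iff, ← hG, commutator_def]
  have h1 := comm_le (ρ := ρ) (τ := τ) (h := h)
  rwa [hS] at h1

theorem trace_eq (hG : commutator G = ⊤) (hS : Sc ρ τ h = ⊤) (g : G) :
    LinearMap.trace K V (ρ g) = LinearMap.trace K V' (τ g) := by
  have h1 : g ∈ S ρ τ h := by rw [S_eq_top hG hS]; trivial
  have h2 : τ g = h.conj (ρ g) := by
    ext v
    rw [LinearEquiv.conj_apply_apply, h1, h.apply_symm_apply]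
  rw [h2, LinearMap.trace_conj']

end glue

section weights

variable {K : Type*} [Field K] {V : Type*} [AddCommGroup V] [Module K V]

/-- Nonzero vectors with different weights are linearly independent. -/
theorem linInd_of_wt {r κ : Type*} (f : r → Module.End K V) (χ : κ → r → K) (hχ : Function.Injective χ)
    (v : κ → V) (hv : ∀ x, v x ≠ 0) (hf : ∀ x i, f i (v x) = χ x i • v x) : LinearIndependent K v := by
  classical
  rw [linearIndependent_iff']
  intro s
  induction s using Finset.induction_on with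
  | empty => intro g _ i hi; simp at hi
  | insert x₀ s hx₀ ih =>
    intro g hg
    have hs : ∀ x ∈ s, g x = 0 := by
      intro x hx
      have hne : χ x ≠ χ x₀ := fun e => hx₀ (hχ e ▸ hx)
      obtain ⟨i, hi⟩ := Function.ne_iff.1 hne
      have h1 := congrArg (f i) hg
      rw [map_sum, map_zero] at h1
      have h2 : ∑ y ∈ s, (g y * (χ y i - χ x₀ i)) • v y = 0 := by
        have h3 : ∑ y ∈ insert x₀ s, (g y * (χ y i - χ x₀ i)) • v y = 0 := by
          have e : ∀ y ∈ insert x₀ s, (g y * (χ y i - χ x₀ i)) • v y = f i (g y • v y) - χ x₀ i • (g y • v y) := by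
            intro y _
            rw [map_smul, hf, mul_sub, sub_smul, smul_smul, smul_smul, mul_comm (χ x₀ i)]
          rw [Finset.sum_congr rfl e, Finset.sum_sub_distrib, h1, ← Finset.smul_sum, hg, smul_zero, sub_zero]
        rw [Finset.sum_insert hx₀, sub_self, mul_zero, zero_smul, zero_add] at h3
        exact h3
      have h4 := ih (fun y => g y * (χ y i - χ x₀ i)) h2 x hx
      rcases mul_eq_zero.1 h4 with h5 | h5
      · exact h5
      · exact absurd (sub_eq_zero.1 h5) hi
    intro x hx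
    rcases Finset.mem_insert.1 hx with rfl | hx
    · rw [Finset.sum_insert hx₀, Finset.sum_eq_zero (fun y hy => by rw [hs y hy, zero_smul]), add_zero] at hg
      rcases smul_eq_zero.1 hg with h5 | h5
      · exact h5
      · exact absurd h5 (hv x)
    · exact hs x hx

/-- A vector with the weight of a basis vector is a multiple of it. -/
theorem smul_of_wt {r κ : Type*} (f : r → Module.End K V) (χ : κ → r → K) (hχ : Function.Injective χ)
    (b : Basis κ K V) (hf : ∀ x i, f i (b x) = χ x i • b x) {x₀ : κ} {u : V} (hu : ∀ i, f i u = χ x₀ i • u) :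
    ∃ c : K, u = c • b x₀ := by
  classical
  refine ⟨b.repr u x₀, ?_⟩
  have key : ∀ y, y ≠ x₀ → b.repr u y = 0 := by
    intro y hy
    have hne : χ y ≠ χ x₀ := fun e => hy (hχ e)
    obtain ⟨i, hi⟩ := Function.ne_iff.1 hne
    have h1 : ∀ w : V, b.repr (f i w) y = χ y i * b.repr w y := by
      have h2 : (b.coord y) ∘ₗ (f i) = χ y i • b.coord y := by
        apply b.ext
        intro x
        rw [LinearMap.comp_apply, hf, map_smul, LinearMap.smul_apply, Basis.coord_apply, b.repr_self]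
        by_cases e : x = y
        · rw [e]
        · rw [Finsupp.single_eq_of_ne (Ne.symm e), smul_zero, smul_zero]
      intro w
      have h3 := LinearMap.congr_fun h2 w
      rw [LinearMap.comp_apply, LinearMap.smul_apply, Basis.coord_apply, Basis.coord_apply, smul_eq_mul] at h3
      exact h3
    have h4 := h1 u
    rw [hu, map_smul, Finsupp.smul_apply, smul_eq_mul] at h4
    have h5 : (χ x₀ i - χ y i) * b.repr u y = 0 := by rw [sub_mul, h4, sub_self]
    rcases mul_eq_zero.1 h5 with h6 | h6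
    · exact absurd (sub_eq_zero.1 h6).symm hi
    · exact h6
  apply b.repr.injective
  ext y
  rw [map_smul, b.repr_self, Finsupp.smul_apply, smul_eq_mul]
  by_cases e : y = x₀
  · rw [e, Finsupp.single_eq_same, mul_one]
  · rw [key y e, Finsupp.single_eq_of_ne e, mul_zero]

/-- **Common eigenvectors of commuting operators with `f ^ 3 = 1`.** -/
theorem exists_wt {ω : K} (hω : ω ^ 2 + ω + 1 = 0) (h3 : (3 : K) ≠ 0) : ∀ (l : List (Module.End K V))
    (_ : ∀ f ∈ l, ∀ g ∈ l, ∀ v, f (g v) = g (f v)) (_ : ∀ f ∈ l, ∀ v, f (f (f v)) = v) (U : Submodule K V)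
    (_ : ∀ f ∈ l, ∀ u ∈ U, f u ∈ U) (_ : U ≠ ⊥),
    ∃ v ∈ U, v ≠ 0 ∧ ∀ f ∈ l, ∃ j < 3, f v = ω ^ j • v := by
  intro l
  induction l with
  | nil =>
    intro _ _ U _ hne
    obtain ⟨v, hv, hv0⟩ := (Submodule.ne_bot_iff U).1 hne
    exact ⟨v, hv, hv0, by simp⟩
  | cons f l ih =>
    intro hc h1 U hU hne
    have hω3 : ω ^ 3 = 1 := by
      have : ω ^ 3 - 1 = (ω - 1) * (ω ^ 2 + ω + 1) := by ring
      rw [hω, mul_zero] at this
      exact sub_eq_zero.1 this
    obtain ⟨u, hu, hu0⟩ := (Submodule.ne_bot_iff U).1 hne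
    have hf := h1 f List.mem_cons_self
    -- the projections
    obtain ⟨j, hj, w, hw, hw0, hfw⟩ : ∃ j < 3, ∃ w ∈ U, w ≠ 0 ∧ f w = ω ^ j • w := by
      have hfu : f u ∈ U := hU f List.mem_cons_self u hu
      have hffu : f (f u) ∈ U := hU f List.mem_cons_self _ hfu
      by_cases c0 : u + f u + f (f u) = 0
      · by_cases c1 : u + ω ^ 2 • f u + ω • f (f u) = 0
        · refine ⟨2, by norm_num, u + ω • f u + ω ^ 2 • f (f u), ?_, ?_, ?_⟩
          · exact add_mem (add_mem hu (U.smul_mem _ hfu)) (U.smul_mem _ hffu)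
          · intro c2
            apply hu0
            have e : (3 : K) • u = 0 := by
              have e1 : (3 : K) • u = (u + f u + f (f u)) + (u + ω ^ 2 • f u + ω • f (f u)) +
                  (u + ω • f u + ω ^ 2 • f (f u)) - (ω ^ 2 + ω + 1) • f u - (ω ^ 2 + ω + 1) • f (f u) := by
                module
              rw [e1, c0, c1, c2, hω]
              simp
            rcases smul_eq_zero.1 e with e | e
            · exact absurd e h3
            · exact e
          · have e4 : ω ^ 4 = ω := by rw [show (4 : ℕ) = 3 + 1 from rfl, pow_add, hω3]; ring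
            simp only [map_add, map_smul, hf u, smul_add, smul_smul]
            rw [show ω ^ 2 * ω = 1 by rw [← hω3]; ring, show ω ^ 2 * ω ^ 2 = ω by rw [← pow_add]; exact e4]
            module
        · refine ⟨1, by norm_num, u + ω ^ 2 • f u + ω • f (f u), ?_, c1, ?_⟩
          · exact add_mem (add_mem hu (U.smul_mem _ hfu)) (U.smul_mem _ hffu)
          · simp only [map_add, map_smul, hf u, smul_add, smul_smul]
            rw [pow_one, show ω * ω ^ 2 = 1 by rw [← hω3]; ring, show ω * ω = ω ^ 2 by ring]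
            module
      · refine ⟨0, by norm_num, u + f u + f (f u), ?_, c0, ?_⟩
        · exact add_mem (add_mem hu hfu) hffu
        · simp only [map_add, hf u, pow_zero, one_smul]
          abel
    -- induction
    obtain ⟨v, hv, hv0, hv1⟩ := ih (fun a ha b hb => hc a (List.mem_cons_of_mem _ ha) b (List.mem_cons_of_mem _ hb))
      (fun a ha => h1 a (List.mem_cons_of_mem _ ha)) (U ⊓ LinearMap.ker (f - (ω ^ j) • (1 : Module.End K V))) (by
        rintro g hg x ⟨hx1, hx2⟩
        refine ⟨hU g (List.mem_cons_of_mem _ hg) x hx1, ?_⟩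
        rw [SetLike.mem_coe, LinearMap.mem_ker, LinearMap.sub_apply, LinearMap.smul_apply, Module.End.one_apply,
          sub_eq_zero] at hx2 ⊢
        rw [hc f List.mem_cons_self g (List.mem_cons_of_mem _ hg), hx2, map_smul]) (by
        rw [Submodule.ne_bot_iff]
        refine ⟨w, ⟨hw, ?_⟩, hw0⟩
        rw [SetLike.mem_coe, LinearMap.mem_ker, LinearMap.sub_apply, LinearMap.smul_apply, Module.End.one_apply,
          hfw, sub_self])
    refine ⟨v, hv.1, hv0, ?_⟩
    intro g hg
    rcases List.mem_cons.1 hg with rfl | hg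
    · refine ⟨j, hj, ?_⟩
      have h2 := hv.2
      rw [SetLike.mem_coe, LinearMap.mem_ker, LinearMap.sub_apply, LinearMap.smul_apply, Module.End.one_apply,
        sub_eq_zero] at h2
      exact h2
    · exact hv1 g hg

end weights

end Cfsg.Agent.H878.Sz
end

-- part: H878/Sz/Three
section
/-!
# Representations of `6.Suz` of degree at most 12 in characteristic `≠ 3` (helper878)

`frame` : a representation of degree `≤ 12` of `Y` in characteristic `≠ 3`, `a₀` acting nontrivially and `z` as a scalar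
`ζ`, has degree 12, `ζ ^ 2` is a primitive cube root of unity and there is a vector as in `Fr`.
-/

set_option autoImplicit false
set_option maxRecDepth 100000
set_option linter.unusedSimpArgs false

namespace Cfsg.Agent.H878.Sz

open Cfsg Cfsg.Spor Cfsg.Agent.H58.SuzRep Module

/-! ### weights -/

/-- digits -/
def dig (i n : ℕ) : ℕ := n / 3 ^ i % 3

theorem dig0 (n : ℕ) : dig 0 n = n % 3 := by unfold dig; norm_num
theorem dig1 (n : ℕ) : dig 1 n = n / 3 % 3 := by unfold dig; norm_num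
theorem dig2 (n : ℕ) : dig 2 n = n / 9 % 3 := by unfold dig; norm_num
theorem dig3 (n : ℕ) : dig 3 n = n / 27 % 3 := by unfold dig; norm_num
theorem dig4 (n : ℕ) : dig 4 n = n / 81 % 3 := by unfold dig; norm_num

/-- `y` on weights -/
def yA (n : ℕ) : ℕ := (2 * (n % 3) + n / 3 % 3 + 2 * (n / 9 % 3) + n / 81 % 3) % 3 + 3 * (n % 81)

/-- `b` on weights -/
def bA (κ n : ℕ) : ℕ := n % 3 + 3 * ((2 * (n % 3) + 2 * (n / 3 % 3) + n / 27 % 3 + n / 81 % 3 + κ) % 3) +
  9 * (n / 9 % 3) + 27 * (n / 81 % 3) + 81 * (n / 27 % 3)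

theorem dig_succ_yA (n : ℕ) : dig 1 (yA n) = dig 0 n ∧ dig 2 (yA n) = dig 1 n ∧ dig 3 (yA n) = dig 2 n ∧
    dig 4 (yA n) = dig 3 n := by
  rw [dig1, dig2, dig3, dig4, dig0, dig1, dig2, dig3]
  unfold yA
  have hX : (2 * (n % 3) + n / 3 % 3 + 2 * (n / 9 % 3) + n / 81 % 3) % 3 < 3 := Nat.mod_lt _ (by norm_num)
  generalize (2 * (n % 3) + n / 3 % 3 + 2 * (n / 9 % 3) + n / 81 % 3) % 3 = X at hX ⊢
  have a1 : (X + 3 * (n % 81)) / 3 = n % 81 := by omega
  have a2 : (X + 3 * (n % 81)) / 9 = n % 81 / 3 := by rw [show (9 : ℕ) = 3 * 3 from rfl, ← Nat.div_div_eq_div_mul, a1]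
  have a3 : (X + 3 * (n % 81)) / 27 = n % 81 / 9 := by rw [show (27 : ℕ) = 3 * 9 from rfl, ← Nat.div_div_eq_div_mul, a1]
  have a4 : (X + 3 * (n % 81)) / 81 = n % 81 / 27 := by
    rw [show (X + 3 * (n % 81)) / 81 = (X + 3 * (n % 81)) / (3 * 27) from rfl, ← Nat.div_div_eq_div_mul, a1]
  rw [a1, a2, a3, a4]
  refine ⟨by omega, by omega, by omega, by omega⟩

theorem dig_mk {a b c d e : ℕ} (ha : a < 3) (hb : b < 3) (hc : c < 3) (hd : d < 3) (he : e < 3) :
    dig 0 (a + 3 * b + 9 * c + 27 * d + 81 * e) = a ∧ dig 1 (a + 3 * b + 9 * c + 27 * d + 81 * e) = b ∧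
    dig 2 (a + 3 * b + 9 * c + 27 * d + 81 * e) = c ∧ dig 3 (a + 3 * b + 9 * c + 27 * d + 81 * e) = d ∧
    dig 4 (a + 3 * b + 9 * c + 27 * d + 81 * e) = e := by
  rw [dig0, dig1, dig2, dig3, dig4]
  refine ⟨by omega, by omega, by omega, by omega, by omega⟩

theorem dig_bA (κ n : ℕ) : dig 0 (bA κ n) = dig 0 n ∧
    dig 1 (bA κ n) = (2 * dig 0 n + 2 * dig 1 n + dig 3 n + dig 4 n + κ) % 3 ∧ dig 2 (bA κ n) = dig 2 n ∧
    dig 3 (bA κ n) = dig 4 n ∧ dig 4 (bA κ n) = dig 3 n := by
  have h := dig_mk (a := n % 3) (b := (2 * (n % 3) + 2 * (n / 3 % 3) + n / 27 % 3 + n / 81 % 3 + κ) % 3)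
    (c := n / 9 % 3) (d := n / 81 % 3) (e := n / 27 % 3) (Nat.mod_lt _ (by norm_num)) (Nat.mod_lt _ (by norm_num))
    (Nat.mod_lt _ (by norm_num)) (Nat.mod_lt _ (by norm_num)) (Nat.mod_lt _ (by norm_num))
  rw [dig0 n, dig1 n, dig2 n, dig3 n, dig4 n]
  exact h

/-- iterates -/
def itY (n : ℕ) : ℕ → ℕ
  | 0 => n
  | k + 1 => yA (itY n k)

/-- the orbit under `y` -/
def orbY (n : ℕ) : List ℕ := (List.range 11).map (itY n)

/-- nodup test -/
def ndB : List ℕ → Bool
  | [] => true
  | a :: l => l.all (fun b => !(Nat.beq a b)) && ndB l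

theorem ndB_sound : ∀ {l : List ℕ}, ndB l = true → l.Nodup
  | [], _ => List.nodup_nil
  | a :: l, h => by
    rw [ndB, Bool.and_eq_true] at h
    rw [List.nodup_cons]
    refine ⟨fun ha => ?_, ndB_sound h.2⟩
    have h1 := List.all_eq_true.1 h.1 a ha
    simp at h1

/-- the enumeration test -/
def good (κ n : ℕ) : Bool :=
  Nat.beq n 0 || ((List.range 11).any fun j => (Nat.beq κ 1 && Nat.beq (bA κ (itY n j)) 0) ||
    ndB (orbY n ++ orbY (bA κ (itY n j))))

private def yF (n : ℕ) : ℕ := cond (Nat.blt n 243) (Nat.land (Nat.shiftRight 0xf0eeece9e4e2dfddd8d6d4cfcccac8c5c0bebcb7b5b2b0aba8a6a49f9d9b9893918e8c8785837e7b7977746f6d6b6664615f5a5755534e4c4a4742403d3b3634322d2a2826231e1c1a1513100e09060402f2edebe8e6e1dedcdad5d3d1cec9c7c4c2bdbbb9b4b1afadaaa5a3a19c9a9795908d8b898482807d787673716c6a6863605e5c595452504b4946443f3c3a3833312f2c272522201b1917120f0d0b080301f1efeae7e5e3e0dbd9d7d2d0cdcbc6c3c1bfbab8b6b3aeaca9a7a2a09e999694928f8a8886817f7c7a7572706e696765625d5b5856514f4d484543413e393735302e2b2924211f1d181614110c0a070500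 (Nat.mul 8 n)) 255) (yA n)

private theorem yF_eq (n : ℕ) : yA n = yF n := by
  have h : (List.range 243).all (fun n => Nat.beq (yA n) (yF n)) = true := by decide +kernel
  by_cases hn : n < 243
  · exact Nat.eq_of_beq_eq_true (List.all_eq_true.1 h n (List.mem_range.2 hn))
  · have e : Nat.blt n 243 = false := by
      rw [← Bool.not_eq_true, Nat.blt_eq]; exact hn
    rw [yF, e]; rfl

private theorem itY_eq : itY = fun n k => (Nat.rec n (fun _ r => yF r) k : ℕ) := by
  funext n k
  induction k with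
  | zero => rfl
  | succ k ih => rw [itY, ih, yF_eq]

private theorem ndB_eq : ndB = fun l => (List.rec true (fun a l r =>
    Bool.rec false r (List.rec true (fun b _ s => Bool.rec s false (Nat.beq a b)) l)) l : Bool) := by
  funext l
  induction l with
  | nil => rfl
  | cons a l ih =>
    have e : l.all (fun b => !(Nat.beq a b)) = (List.rec true (fun b _ s => Bool.rec s false (Nat.beq a b)) l : Bool) := by
      clear ih
      induction l with
      | nil => rfl
      | cons b l ih =>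
        rw [List.all_cons, ih]
        show _ = (Bool.rec _ false (Nat.beq a b) : Bool)
        cases Nat.beq a b <;> rfl
    rw [ndB, ih, e]
    show _ = (Bool.rec false _ _ : Bool)
    generalize (List.rec true (fun b _ s => Bool.rec s false (Nat.beq a b)) l : Bool) = c
    cases c <;> rfl

theorem good_all : ((List.range 243).all fun n => good 0 n && good 1 n) = true := by
  delta good orbY
  rw [itY_eq, ndB_eq]
  decide +kernel

theorem good_spec {κ n : ℕ} (hκ : κ < 2) (hn : n < 243) (h0 : n ≠ 0) :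
    (κ = 1 ∧ ∃ j, bA κ (itY n j) = 0) ∨ ∃ j, (orbY n ++ orbY (bA κ (itY n j))).Nodup := by
  have h1 := List.all_eq_true.1 good_all n (List.mem_range.2 hn)
  rw [Bool.and_eq_true] at h1
  have h2 : good κ n = true := by
    interval_cases κ
    · exact h1.1
    · exact h1.2
  rw [good, Bool.or_eq_true] at h2
  rcases h2 with h2 | h2
  · exact absurd (Nat.eq_of_beq_eq_true h2) h0
  · obtain ⟨j, -, h3⟩ := List.any_eq_true.1 h2
    rw [Bool.or_eq_true, Bool.and_eq_true] at h3
    rcases h3 with h3 | h3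
    · exact Or.inl ⟨Nat.eq_of_beq_eq_true h3.1, j, Nat.eq_of_beq_eq_true h3.2⟩
    · exact Or.inr ⟨j, ndB_sound h3⟩

theorem yA_lt (n : ℕ) : yA n < 243 := by unfold yA; omega
theorem bA_lt (κ n : ℕ) : bA κ n < 243 := by unfold bA; omega

theorem itY_lt {n : ℕ} (h : n < 243) (j : ℕ) : itY n j < 243 := by
  cases j with
  | zero => exact h
  | succ j => exact yA_lt _

section

variable {K : Type*} [Field K] {V : Type*} [AddCommGroup V] [Module K V] (ρ : Representation K Y V)

/-- `v` has weight `n` -/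
def IsW (ω : K) (v : V) (n : ℕ) : Prop := ∀ i, i < 5 → ρ (letter (10 + i)) v = ω ^ dig i n • v

variable {ρ}

theorem apply_W_cons (k : ℕ) (w : List ℕ) (v : V) : ρ (W (k :: w)) v = ρ (letter k) (ρ (W w) v) := by
  rw [W_cons, map_mul, Module.End.mul_apply]

theorem apply_W_append (u w : List ℕ) (v : V) : ρ (W (u ++ w)) v = ρ (W u) (ρ (W w) v) := by
  rw [W_append, map_mul, Module.End.mul_apply]

theorem apply_W_nil (v : V) : ρ (W []) v = v := by rw [W_nil, map_one, Module.End.one_apply]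

theorem apply_W_one (k : ℕ) (v : V) : ρ (W [k]) v = ρ (letter k) v := by rw [W_one]

theorem apply_eq {u w : List ℕ} (h : eqW u w = true) (v : V) : ρ (W u) v = ρ (W w) v := by rw [W_eq h]

variable {ω ζ : K}

theorem omega_three (hω : ω ^ 2 + ω + 1 = 0) : ω ^ 3 = 1 := by
  have : ω ^ 3 - 1 = (ω - 1) * (ω ^ 2 + ω + 1) := by ring
  rw [hω, mul_zero] at this
  exact sub_eq_zero.1 this

theorem omega_mod (hω : ω ^ 2 + ω + 1 = 0) (n : ℕ) : ω ^ (n % 3) = ω ^ n := by
  conv_rhs => rw [← Nat.mod_add_div n 3, pow_add, pow_mul, omega_three hω, one_pow, mul_one]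

theorem omega_ne_one (hω : ω ^ 2 + ω + 1 = 0) (h3 : (3 : K) ≠ 0) : ω ≠ 1 := by
  rintro rfl
  apply h3
  rw [← hω]; norm_num

theorem omega_inj (hω : ω ^ 2 + ω + 1 = 0) (h3 : (3 : K) ≠ 0) {a b : ℕ} (ha : a < 3) (hb : b < 3)
    (h : ω ^ a = ω ^ b) : a = b := by
  have h1 := omega_ne_one hω h3
  have h0 : ω ≠ 0 := by rintro rfl; norm_num at hω
  have h2 : ω ^ 2 ≠ 1 := by
    intro h2
    apply h1
    have := omega_three hω
    rw [pow_succ, h2, one_mul] at this
    exact this
  have h3' : ω ^ 2 ≠ ω := by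
    intro h3'
    apply h1
    have : ω * (ω - 1) = 0 := by rw [mul_sub, mul_one, ← pow_two, h3', sub_self]
    rcases mul_eq_zero.1 this with h | h
    · exact absurd h h0
    · exact sub_eq_zero.1 h
  interval_cases a <;> interval_cases b
  · rfl
  · rw [pow_zero, pow_one] at h; exact absurd h.symm h1
  · rw [pow_zero] at h; exact absurd h.symm h2
  · rw [pow_zero, pow_one] at h; exact absurd h h1
  · rfl
  · rw [pow_one] at h; exact absurd h.symm h3'
  · rw [pow_zero] at h; exact absurd h h2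
  · rw [pow_one] at h; exact absurd h h3'
  · rfl

theorem dig_lt (i n : ℕ) : dig i n < 3 := Nat.mod_lt _ (by norm_num)

/-- nonzero vectors with different weights -/
theorem length_le [FiniteDimensional K V] (hω : ω ^ 2 + ω + 1 = 0) (h3 : (3 : K) ≠ 0) {L : List ℕ} (hL : L.Nodup)
    (h : ∀ n ∈ L, n < 243 ∧ ∃ v, v ≠ 0 ∧ IsW ρ ω v n) : L.length ≤ finrank K V := by
  choose v hv using fun k : Fin L.length => (h (L.get k) (List.get_mem L k)).2
  have h1 : LinearIndependent K v := by
    refine linInd_of_wt (fun i : Fin 5 => ρ (letter (10 + i))) (fun k i => ω ^ dig i (L.get k)) ?_ v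
      (fun k => (hv k).1) (fun k i => (hv k).2 i i.2)
    intro k k' hk
    have hd : ∀ i < 5, dig i (L.get k) = dig i (L.get k') := by
      intro i hi
      exact omega_inj hω h3 (dig_lt _ _) (dig_lt _ _) (congrFun hk ⟨i, hi⟩)
    have e : L.get k = L.get k' := by
      have a1 := (h (L.get k) (List.get_mem L k)).1
      have a2 := (h (L.get k') (List.get_mem L k')).1
      have d0 := hd 0 (by norm_num)
      have d1 := hd 1 (by norm_num)
      have d2 := hd 2 (by norm_num)
      have d3 := hd 3 (by norm_num)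
      have d4 := hd 4 (by norm_num)
      simp only [dig0, dig1, dig2, dig3, dig4] at d0 d1 d2 d3 d4
      omega
    exact (List.nodup_iff_injective_get.1 hL) e
  have h2 := h1.fintype_card_le_finrank
  rwa [Fintype.card_fin] at h2

theorem isW_y (hω : ω ^ 2 + ω + 1 = 0) {v : V} {n : ℕ} (h : IsW ρ ω v n) : IsW ρ ω (ρ (letter 8) v) (yA n) := by
  have e : ∀ k s, eqW [k, 8] (8 :: s) = true → ρ (letter k) (ρ (letter 8) v) = ρ (letter 8) (ρ (W s) v) := by
    intro k s hs
    have h1 := apply_eq (ρ := ρ) hs v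
    rwa [apply_W_cons, apply_W_one, apply_W_cons] at h1
  have h0 := h 0 (by norm_num)
  have h1 := h 1 (by norm_num)
  have h2 := h 2 (by norm_num)
  have h3 := h 3 (by norm_num)
  have h4 := h 4 (by norm_num)
  norm_num at h0 h1 h2 h3 h4
  intro i hi
  interval_cases i
  · rw [e 10 [10, 10, 11, 12, 12, 14] (by decide +kernel)]
    simp only [apply_W_cons, apply_W_nil, h0, h1, h2, h4, map_smul, smul_smul]
    congr 1
    have e2 : dig 0 (yA n) = (2 * dig 0 n + dig 1 n + 2 * dig 2 n + dig 4 n) % 3 := by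
      simp only [dig0, dig1, dig2, dig3, dig4, yA]; omega
    rw [e2, omega_mod hω]
    ring
  · rw [e 11 [10] (by decide +kernel)]
    simp only [apply_W_cons, apply_W_nil, h0, map_smul]
    congr 2
    exact (dig_succ_yA n).1.symm
  · rw [e 12 [11] (by decide +kernel)]
    simp only [apply_W_cons, apply_W_nil, h1, map_smul]
    congr 2
    exact (dig_succ_yA n).2.1.symm
  · rw [e 13 [12] (by decide +kernel)]
    simp only [apply_W_cons, apply_W_nil, h2, map_smul]
    congr 2
    exact (dig_succ_yA n).2.2.1.symm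
  · rw [e 14 [13] (by decide +kernel)]
    simp only [apply_W_cons, apply_W_nil, h3, map_smul]
    congr 2
    exact (dig_succ_yA n).2.2.2.symm

theorem isW_b (hω : ω ^ 2 + ω + 1 = 0) (hz : ∀ w, ρ z w = ζ • w) {κ : ℕ} (hκ : ζ ^ 2 = ω ^ κ) {v : V} {n : ℕ}
    (h : IsW ρ ω v n) : IsW ρ ω (ρ (letter 1) v) (bA κ n) := by
  have e : ∀ k s, eqW [k, 1] (1 :: s) = true → ρ (letter k) (ρ (letter 1) v) = ρ (letter 1) (ρ (W s) v) := by
    intro k s hs
    have h1 := apply_eq (ρ := ρ) hs v
    rwa [apply_W_cons, apply_W_one, apply_W_cons] at h1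
  have h0 := h 0 (by norm_num)
  have h1 := h 1 (by norm_num)
  have h2 := h 2 (by norm_num)
  have h3 := h 3 (by norm_num)
  have h4 := h 4 (by norm_num)
  norm_num at h0 h1 h2 h3 h4
  have hz' : ∀ w, ρ (letter 7) w = ζ • w := hz
  intro i hi
  interval_cases i
  · rw [e 10 [10] (by decide +kernel)]
    simp only [apply_W_cons, apply_W_nil, h0, map_smul]
    congr 2
    exact (dig_bA κ n).1.symm
  · rw [e 11 [10, 10, 11, 11, 13, 14, 7, 7] (by decide +kernel)]
    simp only [apply_W_cons, apply_W_nil, h0, h1, h3, h4, hz', map_smul, smul_smul]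
    congr 1
    have e2 := (dig_bA κ n).2.1
    rw [e2, omega_mod hω]
    rw [show (ω ^ (2 * dig 0 n + 2 * dig 1 n + dig 3 n + dig 4 n + κ)) =
      ω ^ (2 * dig 0 n + 2 * dig 1 n + dig 3 n + dig 4 n) * ω ^ κ from pow_add _ _ _, ← hκ]
    ring
  · rw [e 12 [12] (by decide +kernel)]
    simp only [apply_W_cons, apply_W_nil, h2, map_smul]
    congr 2
    exact (dig_bA κ n).2.2.1.symm
  · rw [e 13 [14] (by decide +kernel)]
    simp only [apply_W_cons, apply_W_nil, h4, map_smul]
    congr 2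
    exact (dig_bA κ n).2.2.2.1.symm
  · rw [e 14 [13] (by decide +kernel)]
    simp only [apply_W_cons, apply_W_nil, h3, map_smul]
    congr 2
    exact (dig_bA κ n).2.2.2.2.symm

theorem apply_ne {g : Y} {v : V} (hv : v ≠ 0) : ρ g v ≠ 0 := by
  intro h
  apply hv
  have h1 : ρ g⁻¹ (ρ g v) = v := by
    rw [← Module.End.mul_apply, ← map_mul, inv_mul_cancel, map_one, Module.End.one_apply]
  rw [← h1, h, map_zero]

theorem exists_itY (hω : ω ^ 2 + ω + 1 = 0) {v : V} {n : ℕ} (hv : v ≠ 0) (h : IsW ρ ω v n) (j : ℕ) :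
    ∃ w, w ≠ 0 ∧ IsW ρ ω w (itY n j) := by
  induction j with
  | zero => exact ⟨v, hv, h⟩
  | succ j ih =>
    obtain ⟨w, hw, hw'⟩ := ih
    exact ⟨_, apply_ne hw, isW_y hω hw'⟩

theorem lt_orbY {n : ℕ} (hn : n < 243) {m : ℕ} (hm : m ∈ orbY n) : m < 243 := by
  obtain ⟨j, -, rfl⟩ := List.mem_map.1 hm
  exact itY_lt hn j

theorem exists_orbY (hω : ω ^ 2 + ω + 1 = 0) {v : V} {n : ℕ} (hv : v ≠ 0) (h : IsW ρ ω v n) {m : ℕ}
    (hm : m ∈ orbY n) : ∃ w, w ≠ 0 ∧ IsW ρ ω w m := by
  obtain ⟨j, -, rfl⟩ := List.mem_map.1 hm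
  exact exists_itY hω hv h j

/-- **There is a vector of weight 0, and `ζ ^ 2 ≠ 1`.** -/
theorem exists_zero [FiniteDimensional K V] (hdim : finrank K V ≤ 12) (hω : ω ^ 2 + ω + 1 = 0) (h3 : (3 : K) ≠ 0)
    (hz : ∀ w, ρ z w = ζ • w) {κ : ℕ} (hκ2 : κ < 2) (hκ : ζ ^ 2 = ω ^ κ) (hne : ρ (letter 10) ≠ 1) :
    κ = 1 ∧ ∃ v, v ≠ 0 ∧ IsW ρ ω v 0 := by
  -- a weight vector in the range of `a₀ - 1`
  have comm : ∀ i j, i < 5 → j < 5 → ∀ v, ρ (letter (10 + i)) (ρ (letter (10 + j)) v) =
      ρ (letter (10 + j)) (ρ (letter (10 + i)) v) := by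
    have key : ∀ i j, eqW [i, j] [j, i] = true → ∀ v, ρ (letter i) (ρ (letter j) v) = ρ (letter j) (ρ (letter i) v) := by
      intro i j hij v
      have h1 := apply_eq (ρ := ρ) hij v
      rwa [apply_W_cons, apply_W_one, apply_W_cons, apply_W_one] at h1
    intro i j hi hj v
    apply key
    interval_cases i <;> interval_cases j <;> decide +kernel
  have cube : ∀ i, i < 5 → ∀ v, ρ (letter (10 + i)) (ρ (letter (10 + i)) (ρ (letter (10 + i)) v)) = v := by
    have key : ∀ i, eqW [i, i, i] [] = true → ∀ v, ρ (letter i) (ρ (letter i) (ρ (letter i) v)) = v := by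
      intro i hi v
      have h1 := apply_eq (ρ := ρ) hi v
      rwa [apply_W_cons, apply_W_cons, apply_W_one, apply_W_nil] at h1
    intro i hi v
    apply key
    interval_cases i <;> decide +kernel
  obtain ⟨v, hvU, hv0, hv⟩ := exists_wt hω h3
    ((List.range 5).map fun i => ρ (letter (10 + i)))
    (by
      intro f hf g hg v
      obtain ⟨i, hi, rfl⟩ := List.mem_map.1 hf
      obtain ⟨j, hj, rfl⟩ := List.mem_map.1 hg
      exact comm i j (List.mem_range.1 hi) (List.mem_range.1 hj) v)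
    (by
      intro f hf v
      obtain ⟨i, hi, rfl⟩ := List.mem_map.1 hf
      exact cube i (List.mem_range.1 hi) v)
    (LinearMap.range (ρ (letter 10) - 1))
    (by
      intro f hf u hu
      obtain ⟨i, hi, rfl⟩ := List.mem_map.1 hf
      obtain ⟨w, rfl⟩ := hu
      refine ⟨ρ (letter (10 + i)) w, ?_⟩
      rw [LinearMap.sub_apply, LinearMap.sub_apply, map_sub, Module.End.one_apply, Module.End.one_apply]
      have h1 := comm 0 i (by norm_num) (List.mem_range.1 hi) w
      rw [h1])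
    (by
      intro h
      apply hne
      rw [LinearMap.range_eq_bot, sub_eq_zero] at h
      exact h)
  have hex : ∀ i, i < 5 → ∃ j < 3, ρ (letter (10 + i)) v = ω ^ j • v := fun i hi =>
    hv _ (List.mem_map.2 ⟨i, List.mem_range.2 hi, rfl⟩)
  obtain ⟨j0, hj0, e0⟩ := hex 0 (by norm_num)
  obtain ⟨j1, hj1, e1⟩ := hex 1 (by norm_num)
  obtain ⟨j2, hj2, e2⟩ := hex 2 (by norm_num)
  obtain ⟨j3, hj3, e3⟩ := hex 3 (by norm_num)
  obtain ⟨j4, hj4, e4⟩ := hex 4 (by norm_num)
  have hj0' : j0 ≠ 0 := by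
    rintro rfl
    obtain ⟨w, hw⟩ := hvU
    rw [LinearMap.sub_apply, Module.End.one_apply] at hw
    rw [pow_zero, one_smul] at e0
    have c := cube 0 (by norm_num) w
    have e0' : ρ (letter 10) v = v := e0
    have c' : ρ (letter 10) (ρ (letter 10) (ρ (letter 10) w)) = w := c
    have w1 : ρ (letter 10) w = v + w := by rw [← hw]; abel
    rw [w1, map_add, e0', w1, map_add, map_add, e0', w1] at c'
    have : (3 : K) • v = 0 := by
      have h5 : (3 : K) • v = (v + (v + (v + w))) - w := by module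
      rw [h5, c', sub_self]
    rcases smul_eq_zero.1 this with h | h
    · exact h3 h
    · exact hv0 h
  set n := j0 + 3 * j1 + 9 * j2 + 27 * j3 + 81 * j4 with hn
  have hn243 : n < 243 := by omega
  have hn0 : n ≠ 0 := by omega
  have hW : IsW ρ ω v n := by
    intro i hi
    have d0 : dig 0 n = j0 := by simp only [dig0, dig1, dig2, dig3, dig4]; omega
    have d1 : dig 1 n = j1 := by simp only [dig0, dig1, dig2, dig3, dig4]; omega
    have d2 : dig 2 n = j2 := by simp only [dig0, dig1, dig2, dig3, dig4]; omega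
    have d3 : dig 3 n = j3 := by simp only [dig0, dig1, dig2, dig3, dig4]; omega
    have d4 : dig 4 n = j4 := by simp only [dig0, dig1, dig2, dig3, dig4]; omega
    interval_cases i
    · rw [d0]; exact e0
    · rw [d1]; exact e1
    · rw [d2]; exact e2
    · rw [d3]; exact e3
    · rw [d4]; exact e4
  rcases good_spec hκ2 hn243 hn0 with ⟨h1, j, hj⟩ | ⟨j, hj⟩
  · refine ⟨h1, ?_⟩
    obtain ⟨w, hw0, hw⟩ := exists_itY hω hv0 hW j
    exact ⟨_, apply_ne hw0, hj ▸ isW_b hω hz hκ hw⟩
  · exfalso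
    obtain ⟨w, hw0, hw⟩ := exists_itY hω hv0 hW j
    have h5 := length_le hω h3 hj (by
      intro m hm
      rcases List.mem_append.1 hm with hm | hm
      · exact ⟨lt_orbY hn243 hm, exists_orbY hω hv0 hW hm⟩
      · exact ⟨lt_orbY (bA_lt _ _) hm, exists_orbY hω (apply_ne hw0) (isW_b hω hz hκ hw) hm⟩)
    have h6 : (orbY n ++ orbY (bA κ (itY n j))).length = 22 := by
      rw [List.length_append, orbY, orbY, List.length_map, List.length_map, List.length_range]
    omega

end

end Cfsg.Agent.H878.Sz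
end

-- part: H878/Sz/ThreeFrame
section
/-!
# Representations of `6.Suz` of degree at most 12 in characteristic `≠ 3`: the monomial frame (helper878)
-/

set_option autoImplicit false
set_option maxRecDepth 100000
set_option linter.unusedSimpArgs false

namespace Cfsg.Agent.H878.Sz

open Cfsg Cfsg.Spor Cfsg.Agent.H58.SuzRep Module

/-- tables of the `a_i` -/
def tabA : ℕ → List (ℕ × List ℕ)
  | 0 => tabA0
  | 1 => tabA1
  | 2 => tabA2
  | 3 => tabA3
  | _ => tabA4

/-- exponents of the weights -/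
def ex (i x : ℕ) : ℕ := ((tabA i).getD x (0, [])).2.count 7

/-- letters in `A` -/
def stA (k : ℕ) : Bool := Nat.beq k 7 || (Nat.ble 10 k && Nat.ble k 14)

theorem tabA_chk : ((List.range 5).all fun i => (List.range 12).all fun x =>
    Nat.beq ((tabA i).getD x (0, [])).1 x && ((tabA i).getD x (0, [])).2.all stA &&
      (Nat.beq (ex i x) 0 || Nat.beq (ex i x) 2)) = true := by decide +kernel

theorem ex_chk : ((List.range 12).all fun x => (List.range 12).all fun x' =>
    Nat.beq x x' || (List.range 5).any fun i => !(Nat.beq (ex i x) (ex i x'))) = true := by decide +kernel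

theorem ex_last : ∀ i < 5, ex i 11 = 0 := by decide +kernel

theorem tabA_spec {i x : ℕ} (hi : i < 5) (hx : x < 12) : ((tabA i).getD x (0, [])).1 = x ∧
    ((tabA i).getD x (0, [])).2.all stA = true ∧ (ex i x = 0 ∨ ex i x = 2) := by
  have h1 := List.all_eq_true.1 (List.all_eq_true.1 tabA_chk i (List.mem_range.2 hi)) x (List.mem_range.2 hx)
  rw [Bool.and_eq_true, Bool.and_eq_true, Bool.or_eq_true] at h1
  exact ⟨Nat.eq_of_beq_eq_true h1.1.1, h1.1.2, h1.2.imp Nat.eq_of_beq_eq_true Nat.eq_of_beq_eq_true⟩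

theorem ex_spec {x x' : ℕ} (hx : x < 12) (hx' : x' < 12) (h : ∀ i < 5, ex i x = ex i x') : x = x' := by
  have h1 := List.all_eq_true.1 (List.all_eq_true.1 ex_chk x (List.mem_range.2 hx)) x' (List.mem_range.2 hx')
  rw [Bool.or_eq_true] at h1
  rcases h1 with h1 | h1
  · exact Nat.eq_of_beq_eq_true h1
  · exfalso
    obtain ⟨i, hi, h2⟩ := List.any_eq_true.1 h1
    rw [h i (List.mem_range.1 hi)] at h2
    simp at h2

theorem chkM_spec {m : List ℕ} {tab : List (ℕ × List ℕ)} (h : chkM m tab = true) {x : ℕ} (hx : x < 12) :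
    W (m ++ rep x) = W (rep (tab.getD x (0, [])).1 ++ (tab.getD x (0, [])).2) ∧
    (tab.getD x (0, [])).2.all st = true ∧ (tab.getD x (0, [])).1 < 12 := by
  have h1 := List.all_eq_true.1 h x (List.mem_range.2 hx)
  rw [Bool.and_eq_true, Bool.and_eq_true] at h1
  refine ⟨W_eq h1.1.1, h1.1.2, ?_⟩
  exact Nat.le_of_ble_eq_true h1.2

theorem chkA_spec {i x : ℕ} (hi : i < 5) (hx : x < 12) :
    W ([10 + i] ++ rep x) = W (rep x ++ ((tabA i).getD x (0, [])).2) := by
  have key : chkM [10 + i] (tabA i) = true := by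
    interval_cases i
    · exact chkA0
    · exact chkA1
    · exact chkA2
    · exact chkA3
    · exact chkA4
  have h1 := (chkM_spec key hx).1
  rwa [(tabA_spec hi hx).1] at h1

section

variable {K : Type*} [Field K] {V : Type*} [AddCommGroup V] [Module K V] {ρ : Representation K Y V} {ζ : K}

/-- the vectors of the frame -/
def vec (ρ : Representation K Y V) (v : V) (x : Fin 12) : V := ρ (W (rep x)) v

theorem vec_last (v : V) : vec ρ v 11 = v := by
  have : rep ((11 : Fin 12) : ℕ) = [] := rfl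
  rw [vec, this, apply_W_nil]

theorem apply_A (hz : ∀ w, ρ z w = ζ • w) {v : V} (hv : ∀ i < 5, ρ (letter (10 + i)) v = v) :
    ∀ {s : List ℕ}, s.all stA = true → ρ (W s) v = ζ ^ s.count 7 • v
  | [], _ => by rw [apply_W_nil]; simp
  | k :: s, h => by
    rw [List.all_cons, Bool.and_eq_true] at h
    rw [apply_W_cons, apply_A hz hv h.2, map_smul]
    have h1 := h.1
    unfold stA at h1
    rw [Bool.or_eq_true, Bool.and_eq_true] at h1
    rcases h1 with h1 | h1
    · have : k = 7 := Nat.eq_of_beq_eq_true h1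
      subst this
      have hz' : ρ (letter 7) v = ζ • v := hz v
      rw [hz', smul_smul, List.count_cons_self, pow_succ]
    · have ha := Nat.le_of_ble_eq_true h1.1
      have hb := Nat.le_of_ble_eq_true h1.2
      have : k = 10 + (k - 10) := by omega
      rw [this, hv (k - 10) (by omega), List.count_cons_of_ne (by omega)]

theorem vec_wt (hz : ∀ w, ρ z w = ζ • w) {v : V} (hv : ∀ i < 5, ρ (letter (10 + i)) v = v) (x : Fin 12) (i : Fin 5) :
    ρ (letter (10 + i)) (vec ρ v x) = ζ ^ ex i x • vec ρ v x := by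
  unfold vec
  rw [← apply_W_one (10 + (i : ℕ)), ← apply_W_append, chkA_spec i.2 x.2, apply_W_append,
    apply_A hz hv (tabA_spec i.2 x.2).2.1, map_smul]
  rfl

theorem pow_ex_inj (hp : ζ ^ 4 + ζ ^ 2 + 1 = 0) (h3 : (3 : K) ≠ 0) :
    Function.Injective fun (x : Fin 12) (i : Fin 5) => ζ ^ ex i x := by
  intro x x' h
  apply Fin.ext
  apply ex_spec x.2 x'.2
  intro i hi
  have hne : ζ ^ 2 ≠ 1 := by
    intro e
    apply h3
    rw [← hp, show ζ ^ 4 = (ζ ^ 2) ^ 2 by ring, e]; norm_num
  have h1 : ζ ^ ex i x = ζ ^ ex i x' := congrFun h ⟨i, hi⟩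
  rcases (tabA_spec hi x.2).2.2 with e | e <;> rcases (tabA_spec hi x'.2).2.2 with e' | e' <;>
    rw [e, e'] at h1 ⊢
  · rw [pow_zero] at h1; exact absurd h1.symm hne
  · rw [pow_zero] at h1; exact absurd h1 hne

theorem vec_linInd (hz : ∀ w, ρ z w = ζ • w) (hp : ζ ^ 4 + ζ ^ 2 + 1 = 0) (h3 : (3 : K) ≠ 0) {v : V} (hv0 : v ≠ 0)
    (hv : ∀ i < 5, ρ (letter (10 + i)) v = v) : LinearIndependent K (vec ρ v) :=
  linInd_of_wt (fun i : Fin 5 => ρ (letter (10 + i))) (fun (x : Fin 12) (i : Fin 5) => ζ ^ ex i x)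
    (pow_ex_inj hp h3) _
    (fun _ => apply_ne hv0) (fun x i => vec_wt hz hv x i)

/-- the frame vector -/
structure Fr (ρ : Representation K Y V) (ζ : K) (v : V) : Prop where
  ne : v ≠ 0
  z : ∀ w, ρ z w = ζ • w
  prim : ζ ^ 4 + ζ ^ 2 + 1 = 0
  a : ∀ i < 5, ρ (letter (10 + i)) v = v
  y : ρ (letter 8) v = v
  c : ρ (letter 2) v = v

/-- **The frame.** -/
theorem frame [FiniteDimensional K V] (hdim : finrank K V ≤ 12) (h3 : (3 : K) ≠ 0) (hz : ∀ w, ρ z w = ζ • w)
    (hω : ∃ ω : K, ω ^ 2 + ω + 1 = 0) (hne : ρ (letter 10) ≠ 1) : finrank K V = 12 ∧ ∃ v, Fr ρ ζ v := by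
  -- `ζ`
  have hζ6 : ζ ^ 6 = 1 := by
    obtain ⟨v, hv⟩ : ∃ v, ρ (letter 10) v ≠ v := by
      by_contra h
      push Not at h
      exact hne (LinearMap.ext h)
    have hv0 : v ≠ 0 := by rintro rfl; simp at hv
    have h1 : ρ (z ^ 6) v = ζ ^ 6 • v := by
      rw [map_pow]
      simp only [pow_succ, pow_zero, one_mul, Module.End.mul_apply, hz, map_smul, smul_smul]
      congr 1
      ring
    rw [z_pow_six, map_one, Module.End.one_apply] at h1
    have h2 : (1 - ζ ^ 6) • v = 0 := by rw [sub_smul, one_smul, ← h1, sub_self]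
    rcases smul_eq_zero.1 h2 with h | h
    · exact (sub_eq_zero.1 h).symm
    · exact absurd h hv0
  obtain ⟨ω, hω, κ, hκ2, hκ⟩ : ∃ ω : K, ω ^ 2 + ω + 1 = 0 ∧ ∃ κ < 2, ζ ^ 2 = ω ^ κ := by
    by_cases h1 : ζ ^ 2 = 1
    · obtain ⟨ω, hω⟩ := hω
      exact ⟨ω, hω, 0, by norm_num, by rw [h1, pow_zero]⟩
    · refine ⟨ζ ^ 2, ?_, 1, by norm_num, by rw [pow_one]⟩
      have h2 : (ζ ^ 2 - 1) * ((ζ ^ 2) ^ 2 + ζ ^ 2 + 1) = 0 := by
        have : (ζ ^ 2 - 1) * ((ζ ^ 2) ^ 2 + ζ ^ 2 + 1) = ζ ^ 6 - 1 := by ring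
        rw [this, hζ6, sub_self]
      rcases mul_eq_zero.1 h2 with h | h
      · exact absurd (sub_eq_zero.1 h) h1
      · exact h
  obtain ⟨hκ1, v, hv0, hv⟩ := exists_zero hdim hω h3 hz hκ2 hκ hne
  rw [hκ1, pow_one] at hκ
  have hp : ζ ^ 4 + ζ ^ 2 + 1 = 0 := by rw [show ζ ^ 4 = (ζ ^ 2) ^ 2 by ring, hκ]; exact hω
  have hva : ∀ i < 5, ρ (letter (10 + i)) v = v := by
    intro i hi
    have h1 := hv i hi
    have h2 : dig i 0 = 0 := by unfold dig; simp
    rwa [h2, pow_zero, one_smul] at h1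
  have hli := vec_linInd hz hp h3 hv0 hva
  have hcard : finrank K V = 12 := by
    have h1 := hli.fintype_card_le_finrank
    rw [Fintype.card_fin] at h1
    omega
  refine ⟨hcard, v, ?_⟩
  set B : Basis (Fin 12) K V := basisOfLinearIndependentOfCardEqFinrank hli (by rw [Fintype.card_fin, hcard]) with hB
  have hBv : ∀ x, B x = vec ρ v x := fun x => by rw [hB]; simp
  have scal : ∀ k, (∀ i < 5, ∃ s, eqW [10 + i, k] (k :: s) = true ∧ s.all stA = true ∧ s.count 7 = 0) →
      ∃ c : K, ρ (letter k) v = c • v := by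
    intro k hk
    obtain ⟨c, hc⟩ := smul_of_wt (fun i : Fin 5 => ρ (letter (10 + i))) (fun (x : Fin 12) (i : Fin 5) => ζ ^ ex i x)
      (pow_ex_inj hp h3) B (fun x i => by rw [hBv]; exact vec_wt hz hva x i) (x₀ := 11) (u := ρ (letter k) v) (by
        intro i
        obtain ⟨s, hs, hs1, hs2⟩ := hk i i.2
        have h1 := apply_eq (ρ := ρ) hs v
        rw [apply_W_cons, apply_W_one, apply_W_cons, apply_A hz hva hs1, hs2, pow_zero, one_smul] at h1
        have h2 : ex i ((11 : Fin 12) : ℕ) = 0 := ex_last i i.2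
        simp only [h2, pow_zero, one_smul]
        exact h1)
    refine ⟨c, ?_⟩
    rw [hc, hBv, vec_last]
  obtain ⟨cy, hcy⟩ := scal 8 (by
    intro i hi
    interval_cases i
    · exact ⟨[10, 10, 11, 12, 12, 14], by decide +kernel, by decide, by decide⟩
    · exact ⟨[10], by decide +kernel, by decide, by decide⟩
    · exact ⟨[11], by decide +kernel, by decide, by decide⟩
    · exact ⟨[12], by decide +kernel, by decide, by decide⟩
    · exact ⟨[13], by decide +kernel, by decide, by decide⟩)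
  obtain ⟨cc, hcc⟩ := scal 2 (by
    intro i hi
    interval_cases i
    · exact ⟨[10], by decide +kernel, by decide, by decide⟩
    · exact ⟨[13], by decide +kernel, by decide, by decide⟩
    · exact ⟨[12], by decide +kernel, by decide, by decide⟩
    · exact ⟨[11], by decide +kernel, by decide, by decide⟩
    · exact ⟨[10, 10, 11, 12, 13, 14, 14], by decide +kernel, by decide, by decide⟩)
  have cancel : ∀ {c : K}, c • v = v → c = 1 := by
    intro c hc
    have h2 : (c - 1) • v = 0 := by rw [sub_smul, one_smul, hc, sub_self]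
    rcases smul_eq_zero.1 h2 with h | h
    · exact sub_eq_zero.1 h
    · exact absurd h hv0
  have e11 : cy ^ 11 = 1 := by
    apply cancel
    have h1 := apply_eq (ρ := ρ) (u := [8, 8, 8, 8, 8, 8, 8, 8, 8, 8, 8]) (w := []) (by decide +kernel) v
    simp only [apply_W_cons, apply_W_nil, hcy, map_smul, smul_smul] at h1
    rw [← h1]; congr 1; ring
  have e2 : cc ^ 2 = 1 := by
    apply cancel
    have h1 := apply_eq (ρ := ρ) (u := [2, 2]) (w := []) (by decide +kernel) v
    simp only [apply_W_cons, apply_W_nil, hcc, map_smul, smul_smul] at h1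
    rw [← h1]; congr 1; ring
  have e3 : cy ^ 6 * cc ^ 3 = 1 := by
    apply cancel
    have h1 := apply_eq (ρ := ρ) (u := [8, 8, 2, 8, 8, 2, 8, 8, 2]) (w := [10, 12, 14]) (by decide +kernel) v
    have a0 := hva 0 (by norm_num)
    have a2 := hva 2 (by norm_num)
    have a4 := hva 4 (by norm_num)
    norm_num at a0 a2 a4
    simp only [apply_W_cons, apply_W_nil, hcc, hcy, map_smul, smul_smul, a0, a2, a4] at h1
    rw [← h1]
    congr 1
    ring
  have hcy1 : cy = 1 := by
    have h1 : cy ^ 12 = 1 := by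
      have : cy ^ 12 = (cy ^ 6 * cc ^ 3) ^ 2 * ((cc ^ 2) ^ 3)⁻¹ := by
        rw [e2]; rw [show (cy ^ 6 * cc ^ 3) ^ 2 = cy ^ 12 * (cc ^ 2) ^ 3 by ring, e2]; ring
      rw [this, e3, e2]; norm_num
    rw [pow_succ, e11, one_mul] at h1
    exact h1
  have hcc1 : cc = 1 := by
    rw [hcy1, one_pow, one_mul, pow_succ, e2, one_mul] at e3
    exact e3
  exact ⟨hv0, hz, hp, hva, by rw [hcy, hcy1, one_smul], by rw [hcc, hcc1, one_smul]⟩

end

end Cfsg.Agent.H878.Sz
end

-- part: H878/Sz/ThreeUniq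
section
/-!
# Representations of `6.Suz` of degree at most 12 in characteristic `≠ 3`: uniqueness (helper878)

`trace_unique` : two such representations with the same `ζ` have the same traces.
-/

set_option autoImplicit false
set_option maxRecDepth 100000
set_option linter.unusedSimpArgs false

namespace Cfsg.Agent.H878.Sz

open Cfsg Cfsg.Spor Cfsg.Agent.H58.SuzRep Module

/-! ### data -/

/-- the diagonal elements normalised -/
def us : ℕ → List ℕ
  | 0 => [10]
  | 1 => [12, 13, 14]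
  | 2 => [13, 14, 14]
  | _ => [11, 13, 14]

/-- the monomial elements -/
def gs : ℕ → List ℕ
  | 0 => [1]
  | 1 => [9, 1, 9]
  | _ => [2, 9, 2, 1, 5, 9]

/-- paths -/
def paths : List (List ℕ × List ℕ) :=
  [([0], []), ([1, 0], [9, 9, 9, 9, 2, 8, 8, 8, 8, 8, 11, 11, 13, 7, 7]),
    ([0, 1], [9, 9, 9, 9, 2, 8, 8, 8, 8, 12, 12, 14, 7, 7]), ([2], [8, 2, 9, 2, 10, 12, 12, 13, 14, 14]),
    ([2, 1], [8, 8, 2, 9, 2, 9, 9, 10, 10, 11, 11, 14, 7, 7]),
    ([2, 1, 0], [8, 8, 2, 8, 2, 8, 8, 8, 10, 10, 11, 12, 12, 13, 13, 7, 7]),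
    ([2, 0, 1], [9, 9, 9, 2, 9, 2, 9, 9, 9, 10, 11, 12, 14]), ([0, 2], [9, 2, 9, 9, 10, 10, 11, 11, 13, 13, 7, 7]),
    ([1, 1], [9, 9, 2, 9, 2, 8, 8, 8, 8, 10, 10, 14]),
    ([2, 0], [8, 2, 9, 9, 9, 9, 2, 9, 10, 10, 11, 11, 12, 12, 14, 7, 7, 7, 7]), ([1], [9]), ([], [])]

/-- the word of a path -/
def pathW (x : ℕ) : List ℕ := ((paths.getD x ([], [])).1.map gs).flatten

theorem path_chk : ((List.range 12).all fun x => eqW (pathW x) (rep x ++ (paths.getD x ([], [])).2) &&
    (paths.getD x ([], [])).2.all st) = true := by decide +kernel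

/-- exponents of `us` -/
def exu (k x : ℕ) : ℕ := ((us k).map fun l => ex (l - 10) x).sum

theorem exu_chk : ((List.range 12).all fun x => (List.range 12).all fun x' =>
    Nat.beq x x' || (List.range 4).any fun k => !(Nat.beq (exu k x / 2 % 3) (exu k x' / 2 % 3))) = true := by
  decide +kernel

theorem exu_even : ((List.range 4).all fun k => (List.range 12).all fun x => Nat.beq (exu k x % 2) 0) = true := by
  decide +kernel

theorem us_chk : ((List.range 4).all fun k => (us k).all fun l => Nat.ble 10 l && Nat.ble l 14) = true := by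
  decide +kernel

/-! ### the theory -/

section

variable {K : Type*} [Field K] {V : Type*} [AddCommGroup V] [Module K V] {ρ : Representation K Y V} {ζ : K}
  {V' : Type*} [AddCommGroup V'] [Module K V'] {τ : Representation K Y V'}

theorem apply_st {v : V} (hF : Fr ρ ζ v) : ∀ {s : List ℕ}, s.all st = true → ρ (W s) v = ζ ^ s.count 7 • v
  | [], _ => by rw [apply_W_nil]; simp
  | k :: s, h => by
    rw [List.all_cons, Bool.and_eq_true] at h
    rw [apply_W_cons, apply_st hF h.2, map_smul]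
    have h1 := h.1
    unfold st at h1
    rw [Bool.or_eq_true, Bool.and_eq_true] at h1
    rcases h1 with h1 | h1
    · have : k = 2 := Nat.eq_of_beq_eq_true h1
      subst this
      rw [hF.c, List.count_cons_of_ne (by norm_num)]
    · have ha := Nat.le_of_ble_eq_true h1.1
      have hb := Nat.le_of_ble_eq_true h1.2
      rcases Nat.lt_or_ge k 10 with hk | hk
      · interval_cases k
        · have hz' : ρ (letter 7) v = ζ • v := hF.z v
          rw [hz', smul_smul, List.count_cons_self, pow_succ]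
        · rw [hF.y, List.count_cons_of_ne (by norm_num)]
        · have hy' : ρ (letter 9) v = v := by
            have h2 : ρ (letter 9) (ρ (letter 8) v) = v := by
              rw [← Module.End.mul_apply, ← map_mul]
              have : letter 9 * letter 8 = 1 := inv_mul_cancel ly
              rw [this, map_one, Module.End.one_apply]
            rwa [hF.y] at h2
          rw [hy', List.count_cons_of_ne (by norm_num)]
      · have : k = 10 + (k - 10) := by omega
        rw [this, hF.a (k - 10) (by omega), List.count_cons_of_ne (by omega)]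

theorem mono {v : V} (hF : Fr ρ ζ v) {m : List ℕ} {tab : List (ℕ × List ℕ)} (h : chkM m tab = true) (x : Fin 12) :
    ρ (W m) (vec ρ v x) = ζ ^ (tab.getD x (0, [])).2.count 7 • vec ρ v ⟨(tab.getD x (0, [])).1, (chkM_spec h x.2).2.2⟩ := by
  have h1 := chkM_spec h x.2
  have e : ρ (W m) (ρ (W (rep x)) v) = ζ ^ (tab.getD x (0, [])).2.count 7 • ρ (W (rep (tab.getD x (0, [])).1)) v := by
    rw [← apply_W_append, h1.1, apply_W_append, apply_st hF h1.2.1, map_smul]
  exact e

/-- the basis -/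
noncomputable def bas (h3 : (3 : K) ≠ 0) {v : V} (hF : Fr ρ ζ v) (hd : finrank K V = 12) : Basis (Fin 12) K V :=
  basisOfLinearIndependentOfCardEqFinrank (vec_linInd hF.z hF.prim h3 hF.ne hF.a) (by rw [Fintype.card_fin, hd])

theorem bas_apply (h3 : (3 : K) ≠ 0) {v : V} (hF : Fr ρ ζ v) (hd : finrank K V = 12) (x : Fin 12) :
    bas h3 hF hd x = vec ρ v x := by
  unfold bas; simp

/-- the comparison -/
noncomputable def cmp (h3 : (3 : K) ≠ 0) {v : V} (hF : Fr ρ ζ v) (hd : finrank K V = 12) {v' : V'} (hF' : Fr τ ζ v')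
    (hd' : finrank K V' = 12) : V ≃ₗ[K] V' :=
  (bas h3 hF hd).equiv (bas h3 hF' hd') (Equiv.refl _)

theorem cmp_vec (h3 : (3 : K) ≠ 0) {v : V} (hF : Fr ρ ζ v) (hd : finrank K V = 12) {v' : V'} (hF' : Fr τ ζ v')
    (hd' : finrank K V' = 12) (x : Fin 12) : cmp h3 hF hd hF' hd' (vec ρ v x) = vec τ v' x := by
  rw [← bas_apply h3 hF hd, cmp, Basis.equiv_apply, Equiv.refl_apply, bas_apply]

theorem mem_S_of_chk (h3 : (3 : K) ≠ 0) {v : V} (hF : Fr ρ ζ v) (hd : finrank K V = 12) {v' : V'} (hF' : Fr τ ζ v')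
    (hd' : finrank K V' = 12) {m : List ℕ} {tab : List (ℕ × List ℕ)} (h : chkM m tab = true) :
    W m ∈ S ρ τ (cmp h3 hF hd hF' hd') := by
  apply mem_S_of_basis (bas h3 hF hd)
  intro x
  rw [bas_apply, cmp_vec, mono hF h, mono hF' h, map_smul, cmp_vec]

/-- good letters -/
def gl (k : ℕ) : Bool := Nat.beq k 1 || Nat.beq k 2 || Nat.beq k 5 || (Nat.ble 7 k && Nat.ble k 14)

theorem W_mem {H : Subgroup Y} {p : ℕ → Bool} (hp : ∀ k, p k = true → letter k ∈ H) :
    ∀ {w : List ℕ}, w.all p = true → W w ∈ H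
  | [], _ => by rw [W_nil]; exact one_mem _
  | k :: w, h => by
    rw [List.all_cons, Bool.and_eq_true] at h
    rw [W_cons]
    exact mul_mem (hp k h.1) (W_mem hp h.2)

theorem letter_mem_S (h3 : (3 : K) ≠ 0) {v : V} (hF : Fr ρ ζ v) (hd : finrank K V = 12) {v' : V'} (hF' : Fr τ ζ v')
    (hd' : finrank K V' = 12) (k : ℕ) (hk : gl k = true) : letter k ∈ S ρ τ (cmp h3 hF hd hF' hd') := by
  have a1 : letter 1 ∈ S ρ τ (cmp h3 hF hd hF' hd') := by rw [← W_one]; exact mem_S_of_chk h3 hF hd hF' hd' chkB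
  have a2 : letter 2 ∈ S ρ τ (cmp h3 hF hd hF' hd') := by rw [← W_one]; exact mem_S_of_chk h3 hF hd hF' hd' chkC
  have a8 : letter 8 ∈ S ρ τ (cmp h3 hF hd hF' hd') := by rw [← W_one]; exact mem_S_of_chk h3 hF hd hF' hd' chkY
  have a9 : letter 9 ∈ S ρ τ (cmp h3 hF hd hF' hd') := inv_mem a8
  have a10 : letter 10 ∈ S ρ τ (cmp h3 hF hd hF' hd') := by rw [← W_one]; exact mem_S_of_chk h3 hF hd hF' hd' chkA0
  have a11 : letter 11 ∈ S ρ τ (cmp h3 hF hd hF' hd') := by rw [← W_one]; exact mem_S_of_chk h3 hF hd hF' hd' chkA1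
  have a12 : letter 12 ∈ S ρ τ (cmp h3 hF hd hF' hd') := by rw [← W_one]; exact mem_S_of_chk h3 hF hd hF' hd' chkA2
  have a13 : letter 13 ∈ S ρ τ (cmp h3 hF hd hF' hd') := by rw [← W_one]; exact mem_S_of_chk h3 hF hd hF' hd' chkA3
  have a14 : letter 14 ∈ S ρ τ (cmp h3 hF hd hF' hd') := by rw [← W_one]; exact mem_S_of_chk h3 hF hd hF' hd' chkA4
  have a7 : letter 7 ∈ S ρ τ (cmp h3 hF hd hF' hd') := by
    intro w
    have h1 : ρ (letter 7) w = ζ • w := hF.z w
    have h2 : ∀ w, τ (letter 7) w = ζ • w := hF'.z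
    rw [h1, h2, map_smul]
  have a5 : letter 5 ∈ S ρ τ (cmp h3 hF hd hF' hd') := by
    have e : W [5] = W [9, 9, 9, 9, 9, 2, 8, 8, 8, 8, 8, 10, 10, 11, 11, 12, 12, 13, 13] := W_eq (by decide +kernel)
    rw [← W_one, e]
    refine W_mem (p := fun k => Nat.beq k 2 || Nat.beq k 8 || Nat.beq k 9 || Nat.beq k 10 || Nat.beq k 11 ||
      Nat.beq k 12 || Nat.beq k 13) ?_ (by decide)
    intro k hk
    simp only [Bool.or_eq_true] at hk
    rcases hk with ((((((hk | hk) | hk) | hk) | hk) | hk) | hk)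
    · rw [Nat.eq_of_beq_eq_true hk]; exact a2
    · rw [Nat.eq_of_beq_eq_true hk]; exact a8
    · rw [Nat.eq_of_beq_eq_true hk]; exact a9
    · rw [Nat.eq_of_beq_eq_true hk]; exact a10
    · rw [Nat.eq_of_beq_eq_true hk]; exact a11
    · rw [Nat.eq_of_beq_eq_true hk]; exact a12
    · rw [Nat.eq_of_beq_eq_true hk]; exact a13
  unfold gl at hk
  simp only [Bool.or_eq_true, Bool.and_eq_true] at hk
  rcases hk with ((hk | hk) | hk) | hk
  · rw [Nat.eq_of_beq_eq_true hk]; exact a1
  · rw [Nat.eq_of_beq_eq_true hk]; exact a2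
  · rw [Nat.eq_of_beq_eq_true hk]; exact a5
  · have ha := Nat.le_of_ble_eq_true hk.1
    have hb := Nat.le_of_ble_eq_true hk.2
    clear hk
    interval_cases k
    · exact a7
    · exact a8
    · exact a9
    · exact a10
    · exact a11
    · exact a12
    · exact a13
    · exact a14

/-- the words of `M ∩ M^d` -/
def Dw : ℕ → List ℕ
  | 0 => [10]
  | 1 => [12, 13, 14]
  | 2 => [13, 14, 14]
  | 3 => [11, 13, 14]
  | 4 => [1]
  | 5 => [9, 1, 9]
  | _ => [2, 9, 2, 1, 5, 9]

/-- their conjugates -/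
def Dw' : ℕ → List ℕ
  | 0 => [10, 10, 7, 7]
  | 1 => [12, 12, 13, 13, 14, 14, 7, 7]
  | 2 => [9, 1, 2, 8, 1, 9, 5, 2, 11, 11, 12, 12]
  | 3 => [5, 1, 11, 11, 12, 12, 13, 14, 7, 7]
  | 4 => [1]
  | 5 => [2, 9, 1, 8, 2, 1, 12, 12, 13, 13, 14, 14, 7, 7]
  | _ => [5, 1, 2, 9, 2, 1, 5, 9, 10, 13, 13, 14, 7, 7, 7, 7, 7]

theorem D_chk : ((List.range 7).all fun k => eqW (3 :: Dw k) (Dw' k ++ [3]) && (Dw k).all gl && (Dw' k).all gl) = true := by
  decide +kernel

/-- the scalar commutant -/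
theorem scalar_of_comm (h3 : (3 : K) ≠ 0) {v : V} (hF : Fr ρ ζ v) (hd : finrank K V = 12) (X : V →ₗ[K] V)
    (hX : ∀ k < 7, ∀ v, X (ρ (W (Dw k)) v) = ρ (W (Dw k)) (X v)) : ∃ c : K, ∀ v, X v = c • v := by
  have hω : (ζ ^ 2) ^ 2 + ζ ^ 2 + 1 = 0 := by rw [← pow_mul]; exact hF.prim
  have hz0 : ζ ≠ 0 := by rintro rfl; have := hF.prim; norm_num at this
  -- weights of `us`
  have hus : ∀ (k : Fin 4) (x : Fin 12), ρ (W (us k)) (vec ρ v x) = (ζ ^ 2) ^ (exu k x / 2) • vec ρ v x := by
    intro k x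
    have e1 : ∀ w : List ℕ, (w.all fun l => Nat.ble 10 l && Nat.ble l 14) = true →
        ρ (W w) (vec ρ v x) = ζ ^ ((w.map fun l => ex (l - 10) x).sum) • vec ρ v x := by
      intro w
      induction w with
      | nil => intro _; rw [apply_W_nil]; simp
      | cons l w ih =>
        intro hw
        rw [List.all_cons, Bool.and_eq_true, Bool.and_eq_true] at hw
        have ha := Nat.le_of_ble_eq_true hw.1.1
        have hb := Nat.le_of_ble_eq_true hw.1.2
        rw [apply_W_cons, ih hw.2, map_smul]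
        have h4 := vec_wt hF.z hF.a x ⟨l - 10, by omega⟩
        have h5 : 10 + (l - 10) = l := by omega
        simp only [h5] at h4
        rw [h4, smul_smul, List.map_cons, List.sum_cons, pow_add]
        congr 1
        ring
    have h4 := e1 (us k) (List.all_eq_true.1 us_chk k (List.mem_range.2 k.2))
    rw [h4, ← pow_mul]
    have h5 := Nat.eq_of_beq_eq_true (List.all_eq_true.1 (List.all_eq_true.1 exu_even k (List.mem_range.2 k.2)) x
      (List.mem_range.2 x.2))
    have h6 : 2 * (exu k x / 2) = exu k x := by omega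
    rw [h6]
    rfl
  have hinj : Function.Injective fun (x : Fin 12) (k : Fin 4) => (ζ ^ 2) ^ (exu k x / 2) := by
    intro x x' h
    apply Fin.ext
    have h1 := List.all_eq_true.1 (List.all_eq_true.1 exu_chk x (List.mem_range.2 x.2)) x' (List.mem_range.2 x'.2)
    rw [Bool.or_eq_true] at h1
    rcases h1 with h1 | h1
    · exact Nat.eq_of_beq_eq_true h1
    · exfalso
      obtain ⟨k, hk, h2⟩ := List.any_eq_true.1 h1
      have h4 : (ζ ^ 2) ^ (exu k x / 2) = (ζ ^ 2) ^ (exu k x' / 2) := congrFun h ⟨k, List.mem_range.1 hk⟩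
      rw [← omega_mod hω (exu k x / 2), ← omega_mod hω (exu k x' / 2)] at h4
      have h5 := omega_inj hω h3 (Nat.mod_lt _ (by norm_num)) (Nat.mod_lt _ (by norm_num)) h4
      rw [h5] at h2
      simp at h2
  have hDu : ∀ k : Fin 4, Dw k = us k := by decide
  have hDg : ∀ k < 3, Dw (k + 4) = gs k := by
    intro k hk; interval_cases k <;> rfl
  have step1 : ∀ x : Fin 12, ∃ c : K, X (vec ρ v x) = c • vec ρ v x := by
    intro x
    obtain ⟨c, hc⟩ := smul_of_wt (fun k : Fin 4 => ρ (W (us k))) (fun (x : Fin 12) (k : Fin 4) => (ζ ^ 2) ^ (exu k x / 2))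
      hinj (bas h3 hF hd) (fun x k => by rw [bas_apply]; exact hus k x) (x₀ := x) (u := X (vec ρ v x)) (by
        intro k
        show ρ (W (us k)) (X (vec ρ v x)) = _
        have h4 := hX k (by omega) (vec ρ v x)
        rw [hDu k] at h4
        rw [← h4, hus, map_smul])
    exact ⟨c, by rw [hc, bas_apply]⟩
  obtain ⟨c, hc⟩ := step1 11
  rw [vec_last] at hc
  refine ⟨c, ?_⟩
  have hpath : ∀ (p : List ℕ) (_ : ∀ k ∈ p, k < 3) (w : V), X (ρ (W ((p.map gs).flatten)) w) =
      ρ (W ((p.map gs).flatten)) (X w) := by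
    intro p
    induction p with
    | nil => intro _ w; simp only [List.map_nil, List.flatten_nil, apply_W_nil]
    | cons k p ih =>
      intro hp w
      rw [List.map_cons, List.flatten_cons, apply_W_append, apply_W_append]
      have h4 := hX (k + 4) (by have := hp k List.mem_cons_self; omega) (ρ (W ((p.map gs).flatten)) w)
      rw [hDg k (hp k List.mem_cons_self)] at h4
      rw [h4, ih (fun l hl => hp l (List.mem_cons_of_mem _ hl))]
  have hlt : ∀ x < 12, ∀ k ∈ (paths.getD x ([], [])).1, k < 3 := by decide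
  have step2 : ∀ x : Fin 12, X (vec ρ v x) = c • vec ρ v x := by
    intro x
    have h1 := List.all_eq_true.1 path_chk x (List.mem_range.2 x.2)
    rw [Bool.and_eq_true] at h1
    have h4 := apply_eq (ρ := ρ) h1.1 v
    rw [apply_W_append, apply_st hF h1.2, map_smul] at h4
    have h5 := hpath (paths.getD x ([], [])).1 (hlt x x.2) v
    have h6 : (((paths.getD x ([], [])).1.map gs).flatten) = pathW x := rfl
    rw [h6, h4, hc, map_smul, map_smul, h4] at h5
    have h7 : ζ ^ (paths.getD x ([], [])).2.count 7 ≠ 0 := pow_ne_zero _ hz0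
    rw [smul_comm] at h5
    have h8 := smul_right_injective V h7 h5
    exact h8
  have key : X = c • (LinearMap.id : V →ₗ[K] V) := by
    apply (bas h3 hF hd).ext
    intro x
    rw [bas_apply, step2, LinearMap.smul_apply, LinearMap.id_apply]
  intro w
  rw [key, LinearMap.smul_apply, LinearMap.id_apply]

/-- **Uniqueness.** -/
theorem trace_unique (h3 : (3 : K) ≠ 0) {v : V} (hF : Fr ρ ζ v) (hd : finrank K V = 12) {v' : V'} (hF' : Fr τ ζ v')
    (hd' : finrank K V' = 12) (g : Y) : LinearMap.trace K V (ρ g) = LinearMap.trace K V' (τ g) := by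
  have hS := fun k hk => letter_mem_S h3 hF hd hF' hd' k hk
  have h3' : letter 3 ∈ Sc ρ τ (cmp h3 hF hd hF' hd') := by
    refine glue (D := {m | ∃ k < 7, m = W (Dw k)}) ?_ ?_
    · intro X hX
      exact scalar_of_comm h3 hF hd X (fun k hk => hX _ ⟨k, hk, rfl⟩)
    · rintro _ ⟨k, hk, rfl⟩
      have h1 := List.all_eq_true.1 D_chk k (List.mem_range.2 hk)
      rw [Bool.and_eq_true, Bool.and_eq_true] at h1
      refine ⟨W_mem hS h1.1.2, ?_⟩
      have h2 := W_eq h1.1.1
      rw [W_cons, W_append, W_one] at h2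
      rw [h2, mul_inv_cancel_right]
      exact W_mem hS h1.2
  have hSc : ∀ k, (gl k || Nat.beq k 3) = true → letter k ∈ Sc ρ τ (cmp h3 hF hd hF' hd') := by
    intro k hk
    rw [Bool.or_eq_true] at hk
    rcases hk with hk | hk
    · exact S_le_Sc (hS k hk)
    · rw [Nat.eq_of_beq_eq_true hk]; exact h3'
  have w0 : letter 0 ∈ Sc ρ τ (cmp h3 hF hd hF' hd') := by
    have e : W [0] = W [2, 3, 2, 3, 2, 3, 2, 3, 7, 7, 7] := W_eq (by decide +kernel)
    rw [← W_one, e]
    exact W_mem hSc (by decide)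
  have w4 : letter 4 ∈ Sc ρ τ (cmp h3 hF hd hF' hd') := by
    have e : W [4] = W [9, 3, 2, 9, 3, 8, 3, 9, 1, 2, 3, 9, 2, 9, 2, 1, 5, 1, 8, 10, 11, 11, 12, 12, 13, 14, 14, 7, 7, 7,
      7, 7] := W_eq (by decide +kernel)
    rw [← W_one, e]
    exact W_mem hSc (by decide)
  have w6 : letter 6 ∈ Sc ρ τ (cmp h3 hF hd hF' hd') := by
    have e : W [6] = W [8, 10, 10, 9, 5, 1, 3, 2, 3, 1, 9, 2, 8, 8, 8, 5, 11, 11, 12, 12, 13, 7, 7, 7] :=
      W_eq (by decide +kernel)
    rw [← W_one, e]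
    exact W_mem hSc (by decide)
  refine trace_eq perfect_Y (eq_top_of_gens ?_ (hSc 7 (by decide))) g
  intro x
  cases x
  · exact w0
  · exact hSc 1 (by decide)
  · exact hSc 2 (by decide)
  · exact h3'
  · exact w4
  · exact hSc 5 (by decide)
  · exact w6

end

end Cfsg.Agent.H878.Sz
end

-- part: H878/Sz/Bridge
section
/-!
# From a core with socle `Suz` to representations of the sixfold cover (helper878)
-/

set_option autoImplicit false

namespace Cfsg.Agent.H878.Sz

open Cfsg Cfsg.Spor Cfsg.Geo Cfsg.Agent.H58.SuzRep Cfsg.Agent.H915.LD Module Matrix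

universe u

section mat

variable {ι : Type} [Fintype ι] [DecidableEq ι] {K : Type u} [Field K]

/-- the representation of a matrix representation -/
noncomputable def ofMat (m : Y →* Matrix ι ι K) : Representation K Y (ι → K) :=
  ((Matrix.toLinAlgEquiv' : Matrix ι ι K ≃ₐ[K] _) : Matrix ι ι K →* ((ι → K) →ₗ[K] (ι → K))).comp m

theorem ofMat_apply (m : Y →* Matrix ι ι K) (g : Y) (v : ι → K) : ofMat m g v = m g *ᵥ v := rfl

theorem trace_ofMat (m : Y →* Matrix ι ι K) (g : Y) : LinearMap.trace K (ι → K) (ofMat m g) = (m g).trace := by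
  have h : ofMat m g = Matrix.toLin' (m g) := rfl
  rw [h, Matrix.trace_toLin'_eq]

theorem ofMat_z {m : Y →* Matrix ι ι K} {c : K} (h : m z = c • (1 : Matrix ι ι K)) (v : ι → K) : ofMat m z v = c • v := by
  rw [ofMat_apply, h, Matrix.smul_mulVec, Matrix.one_mulVec]

theorem ofMat_ne_one {m : Y →* Matrix ι ι K} {g : Y} (h : m g ≠ 1) : ofMat m g ≠ 1 := by
  intro e
  apply h
  have h1 : Matrix.toLin' (m g) = Matrix.toLin' 1 := by rw [Matrix.toLin'_one]; exact e
  exact Matrix.toLin'.injective h1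

/-- Frobenius twist -/
noncomputable def frob (p : ℕ) [Fact p.Prime] [CharP K p] (m : Y →* Matrix ι ι K) : Y →* Matrix ι ι K :=
  ((frobenius K p).mapMatrix (m := ι)).toMonoidHom.comp m

theorem frob_apply (p : ℕ) [Fact p.Prime] [CharP K p] (m : Y →* Matrix ι ι K) (g : Y) :
    frob p m g = (m g).map (frobenius K p) := rfl

/-- the dual -/
noncomputable def dual (m : Y →* Matrix ι ι K) : Y →* Matrix ι ι K where
  toFun g := (m g⁻¹)ᵀ
  map_one' := by rw [inv_one, map_one, Matrix.transpose_one]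
  map_mul' g h := by rw [_root_.mul_inv_rev, map_mul, Matrix.transpose_mul]

theorem dual_apply (m : Y →* Matrix ι ι K) (g : Y) : dual m g = (m g⁻¹)ᵀ := rfl

theorem trace_frob (p : ℕ) [Fact p.Prime] [CharP K p] (m : Y →* Matrix ι ι K) (g : Y) :
    (frob p m g).trace = (m g).trace ^ p := by
  rw [frob_apply, ← frobenius_def, ← RingHom.mapMatrix_apply]
  exact (AddMonoidHom.map_trace (frobenius K p).toAddMonoidHom (m g)).symm

theorem trace_dual (m : Y →* Matrix ι ι K) (g : Y) : (dual m g).trace = (m g⁻¹).trace := by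
  rw [dual_apply, Matrix.trace_transpose]

theorem frob_z (p : ℕ) [Fact p.Prime] [CharP K p] {m : Y →* Matrix ι ι K} {c : K} (h : m z = c • (1 : Matrix ι ι K)) :
    frob p m z = (c ^ p) • (1 : Matrix ι ι K) := by
  rw [frob_apply, h]
  ext i j
  rw [Matrix.map_apply, Matrix.smul_apply, Matrix.smul_apply, smul_eq_mul, smul_eq_mul, map_mul, frobenius_def,
    Matrix.one_apply]
  split_ifs <;> simp

theorem dual_z {m : Y →* Matrix ι ι K} {c : K} (h : m z = c • (1 : Matrix ι ι K)) (hc : c ≠ 0) :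
    dual m z = c⁻¹ • (1 : Matrix ι ι K) := by
  have h1 : m z * m z⁻¹ = 1 := by rw [← map_mul, mul_inv_cancel, map_one]
  have h2 : m z⁻¹ = c⁻¹ • (1 : Matrix ι ι K) := by
    rw [h, Matrix.smul_mul, one_mul] at h1
    rw [← h1, smul_smul, inv_mul_cancel₀ hc, one_smul]
  rw [dual_apply, h2, Matrix.transpose_smul, Matrix.transpose_one]

theorem frob_ne_one (p : ℕ) [Fact p.Prime] [CharP K p] {m : Y →* Matrix ι ι K} {g : Y} (h : m g ≠ 1) :
    frob p m g ≠ 1 := by
  intro e
  apply h
  rw [frob_apply] at e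
  have h1 : (m g).map (frobenius K p) = (1 : Matrix ι ι K).map (frobenius K p) := by
    rw [e, Matrix.map_one _ (map_zero _) (map_one _)]
  exact Matrix.map_injective (frobenius K p).injective h1

theorem dual_ne_one {m : Y →* Matrix ι ι K} {g : Y} (h : m g ≠ 1) : dual m g ≠ 1 := by
  intro e
  apply h
  rw [dual_apply, Matrix.transpose_eq_one] at e
  have h1 : m g * m g⁻¹ = 1 := by rw [← map_mul, mul_inv_cancel, map_one]
  rwa [e, mul_one] at h1

end mat

section core

variable {ι : Type} [Fintype ι] [DecidableEq ι] {F : Type u} [Field F] {P : Subgroup (GL ι F)}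

theorem exists_cov [Finite F] (hC : Core P) (e : Soc P ≃* Suz) :
    ∃ φ : Y →* P, Function.Surjective φ ∧ ∀ x, e (toSoc P (φ x)) = q x :=
  cover hC.commutator_top (e.toMonoidHom.comp (toSoc P)) (e.surjective.comp (toSoc_surjective P))
    (by rw [ker_comp e]; exact scalars_le_center)

/-- the matrix representation over a bigger field -/
noncomputable def matOf (K : Type u) [Field K] [Algebra F K] (φ : Y →* P) : Y →* Matrix ι ι K :=
  (((algebraMap F K).mapMatrix (m := ι)).toMonoidHom.comp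
    ((Units.coeHom (Matrix ι ι F)).comp P.subtype)).comp φ

theorem matOf_apply {K : Type u} [Field K] [Algebra F K] (φ : Y →* P) (g : Y) :
    matOf K φ g = (((φ g : P) : GL ι F) : Matrix ι ι F).map (algebraMap F K) := rfl

theorem trace_matOf {K : Type u} [Field K] [Algebra F K] (φ : Y →* P) (g : Y) :
    (matOf K φ g).trace = algebraMap F K (tr ((φ g : P) : GL ι F)) := by
  rw [matOf_apply]
  exact (AddMonoidHom.map_trace (algebraMap F K).toAddMonoidHom _).symm

theorem exists_scalar [Nonempty ι] {e : Soc P ≃* Suz} {φ : Y →* P} (hφ : ∀ x, e (toSoc P (φ x)) = q x) :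
    ∃ c : F, (((φ z : P) : GL ι F) : Matrix ι ι F) = c • (1 : Matrix ι ι F) := by
  have h1 : toSoc P (φ z) = 1 := by
    apply e.injective
    rw [hφ, q_z, map_one]
  have h2 : φ z ∈ (toSoc P).ker := h1
  rw [ker_toSoc, Subgroup.mem_subgroupOf, mem_scalars_iff] at h2
  obtain ⟨c, hc⟩ := h2
  exact ⟨c, hc⟩

theorem matOf_z {K : Type u} [Field K] [Algebra F K] {φ : Y →* P} {c : F}
    (h : (((φ z : P) : GL ι F) : Matrix ι ι F) = c • (1 : Matrix ι ι F)) :
    matOf K φ z = algebraMap F K c • (1 : Matrix ι ι K) := by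
  rw [matOf_apply, h]
  ext i j
  rw [Matrix.map_apply, Matrix.smul_apply, Matrix.smul_apply, smul_eq_mul, smul_eq_mul, map_mul, Matrix.one_apply,
    Matrix.one_apply]
  split_ifs <;> simp

theorem matOf_ne_one {K : Type u} [Field K] [Algebra F K] {e : Soc P ≃* Suz} {φ : Y →* P}
    (hφ : ∀ x, e (toSoc P (φ x)) = q x) {g : Y} (hg : q g ≠ 1) : matOf K φ g ≠ 1 := by
  intro h
  apply hg
  have h1 : φ g = 1 := by
    apply Subtype.ext
    apply Units.ext
    rw [matOf_apply] at h
    have h2 : (((φ g : P) : GL ι F) : Matrix ι ι F).map (algebraMap F K) = (1 : Matrix ι ι F).map (algebraMap F K) := by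
      rw [h, Matrix.map_one _ (map_zero _) (map_one _)]
    exact Matrix.map_injective (algebraMap F K).injective h2
  rw [← hφ, h1, map_one, map_one]

end core

/-- `a₀` is not central. -/
theorem q_a0 : q (letter 10) ≠ 1 := by
  intro h
  obtain ⟨n, hn⟩ := exists_pow_of_ker h
  have hc : ∀ y : Y, letter 10 * y = y * letter 10 := by
    intro y
    rw [hn]
    exact (Commute.pow_left (z_central y) n).eq
  have key : ∀ k l, eqW [k, 8] [8, l] = true → letter l = letter 10 → letter k = letter 10 := by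
    intro k l h1 h2
    have h3 := W_eq h1
    rw [W_cons, W_one, W_cons, W_one, h2, ← hc] at h3
    exact mul_right_cancel h3
  have a1 : letter 11 = letter 10 := key 11 10 (by decide +kernel) rfl
  have a2 : letter 12 = letter 10 := key 12 11 (by decide +kernel) a1
  have a3 : letter 13 = letter 10 := key 13 12 (by decide +kernel) a2
  have a4 : letter 14 = letter 10 := key 14 13 (by decide +kernel) a3
  have e1 : letter 10 ^ 5 = 1 := by
    have h1 : W [10, 8] = W [8, 10, 10, 11, 12, 12, 14] := W_eq (by decide +kernel)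
    simp only [W_cons, W_nil, mul_one, a1, a2, a4] at h1
    rw [hc] at h1
    have h2 := mul_left_cancel h1
    have h3 : letter 10 * 1 = letter 10 * (letter 10 ^ 5) := by
      rw [mul_one]; nth_rewrite 1 [h2]; simp only [pow_succ, pow_zero, one_mul, mul_assoc]
    exact (mul_left_cancel h3).symm
  have e2 : letter 10 ^ 5 * z ^ 2 = 1 := by
    have h1 : W [11, 1] = W [1, 10, 10, 11, 11, 13, 14, 7, 7] := W_eq (by decide +kernel)
    simp only [W_cons, W_nil, mul_one, a1, a3, a4] at h1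
    rw [hc] at h1
    have h2 := mul_left_cancel h1
    have h3 : letter 10 * 1 = letter 10 * (letter 10 ^ 5 * z ^ 2) := by
      rw [mul_one]; nth_rewrite 1 [h2]; simp only [pow_succ, pow_zero, one_mul, mul_assoc]; rfl
    exact (mul_left_cancel h3).symm
  rw [e1, one_mul] at e2
  have h6 := orderOf_dvd_of_pow_eq_one e2
  rw [orderOf_z] at h6
  omega

end Cfsg.Agent.H878.Sz
end

-- part: H878/Sz/MainThree
section
/-!
# Cores with socle `Suz` in degree at most 12, characteristic `≠ 3` (helper878)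

`core_Suz` : `card ι = 12`, a scalar of order 3 in `P`, not self-dual, `Fr P p` if `p % 3 = 1`, `Cj P p` if `p % 3 = 2`.
-/

set_option autoImplicit false

namespace Cfsg.Agent.H878.Sz

open Cfsg Cfsg.Spor Cfsg.Geo Cfsg.Agent.H58.SuzRep Cfsg.Agent.H915.LD Module Matrix

universe u

variable {ι : Type} [Fintype ι] [DecidableEq ι] {F : Type u} [Field F] {P : Subgroup (GL ι F)}

theorem exists_omega (K : Type u) [Field K] [IsAlgClosed K] : ∃ ω : K, ω ^ 2 + ω + 1 = 0 := by
  obtain ⟨x, hx⟩ := IsAlgClosed.exists_root (Polynomial.X ^ 2 + Polynomial.X + 1 : Polynomial K) (by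
    have : (Polynomial.X ^ 2 + Polynomial.X + 1 : Polynomial K).degree = 2 := by compute_degree!
    rw [this]; norm_num)
  refine ⟨x, ?_⟩
  simpa [Polynomial.IsRoot] using hx

theorem zeta_six {K : Type u} [Field K] {ζ : K} (h : ζ ^ 4 + ζ ^ 2 + 1 = 0) : ζ ^ 6 = 1 := by
  have : (ζ ^ 2 - 1) * (ζ ^ 4 + ζ ^ 2 + 1) = ζ ^ 6 - 1 := by ring
  rw [h, mul_zero] at this
  exact (sub_eq_zero.1 this.symm)

theorem frob_pow {K : Type u} [Field K] {ζ : K} (h : ζ ^ 4 + ζ ^ 2 + 1 = 0) {p : ℕ} [hp : Fact p.Prime] [CharP K p]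
    (hp1 : p % 3 = 1) : ζ ^ p = ζ := by
  have h2 : p ≠ 2 := by rintro rfl; norm_num at hp1
  have hodd := hp.out.eq_two_or_odd'.resolve_left h2
  obtain ⟨k, hk⟩ : ∃ k, p = 6 * k + 1 := ⟨p / 6, by
    rw [Nat.odd_iff] at hodd
    omega⟩
  rw [hk, pow_succ, pow_mul, zeta_six h, one_pow, one_mul]

theorem frob_pow' {K : Type u} [Field K] {ζ : K} (h : ζ ^ 4 + ζ ^ 2 + 1 = 0) {p : ℕ} [hp : Fact p.Prime] [CharP K p]
    (hp1 : p % 3 = 2) : ζ ^ p = ζ⁻¹ := by
  apply eq_inv_of_mul_eq_one_left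
  rw [← pow_succ]
  rcases hp.out.eq_two_or_odd' with h2 | hodd
  · subst h2
    have h0 : (2 : K) = 0 := CharTwo.two_eq_zero
    have h1 : (ζ ^ 2 + ζ + 1) ^ 2 = 0 := by
      have : (ζ ^ 2 + ζ + 1) ^ 2 = (ζ ^ 4 + ζ ^ 2 + 1) + 2 * (ζ ^ 3 + ζ ^ 2 + ζ) := by ring
      rw [this, h, h0, zero_mul, add_zero]
    have h3 : ζ ^ 2 + ζ + 1 = 0 := by
      rcases pow_eq_zero_iff (n := 2) (by norm_num) |>.1 h1 with h; exact h
    exact omega_three h3
  · obtain ⟨k, hk⟩ : ∃ k, p + 1 = 6 * k := ⟨(p + 1) / 6, by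
      rw [Nat.odd_iff] at hodd
      omega⟩
    rw [hk, pow_mul, zeta_six h, one_pow]

/-- **Cores with socle `Suz`, characteristic `≠ 3`.** -/
theorem core_Suz [Finite F] (hC : Core P) (e : Soc P ≃* Suz) (hn : Fintype.card ι ≤ 12) (p : ℕ) [hp : Fact p.Prime]
    [CharP F p] (hp3 : p ≠ 3) :
    Fintype.card ι = 12 ∧ (∃ c : F, c ^ 4 + c ^ 2 + 1 = 0 ∧ ∃ g ∈ P, (g : Matrix ι ι F) = c • (1 : Matrix ι ι F)) ∧
      (p % 3 = 1 → Cfsg.Agent.H915.LD.Fr P p) ∧ (p % 3 = 2 → Cj P p) := by
  have := hC.nonempty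
  obtain ⟨φ, hφs, hφ⟩ := exists_cov hC e
  let K := AlgebraicClosure F
  have : CharP K p := charP_of_injective_algebraMap (algebraMap F K).injective p
  have h3F : (3 : F) ≠ 0 := by
    intro h
    have h1 : ((3 : ℕ) : F) = 0 := by exact_mod_cast h
    rw [CharP.cast_eq_zero_iff F p] at h1
    exact hp3 ((Nat.prime_dvd_prime_iff_eq hp.out Nat.prime_three).1 h1)
  have h3 : (3 : K) ≠ 0 := by
    intro h
    apply h3F
    apply (algebraMap F K).injective
    rw [map_ofNat, map_zero]; exact h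
  obtain ⟨c, hc⟩ := exists_scalar hφ
  have hfr : finrank K (ι → K) = Fintype.card ι := Module.finrank_fintype_fun_eq_card K
  have hω := exists_omega K
  have hz := matOf_z (K := K) hc
  have hne := matOf_ne_one (K := K) hφ q_a0
  have frame' : ∀ (m : Y →* Matrix ι ι K) (ζ : K), m z = ζ • (1 : Matrix ι ι K) → m (letter 10) ≠ 1 →
      finrank K (ι → K) = 12 ∧ ∃ v, Cfsg.Agent.H878.Sz.Fr (ofMat m) ζ v := by
    intro m ζ h1 h2
    exact frame (by rw [hfr]; exact hn) h3 (ofMat_z h1) hω (ofMat_ne_one h2)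
  obtain ⟨hd, v, hF⟩ := frame' _ _ hz hne
  have hprim : c ^ 4 + c ^ 2 + 1 = 0 := by
    apply (algebraMap F K).injective
    rw [map_add, map_add, map_pow, map_pow, map_one, map_zero]
    exact hF.prim
  refine ⟨by rw [← hfr]; exact hd, ⟨c, hprim, _, (φ z).2, hc⟩, ?_, ?_⟩
  · intro hp1 g hg
    obtain ⟨y, hy⟩ := hφs ⟨g, hg⟩
    have h1 := frob_z p hz
    rw [frob_pow hF.prim hp1] at h1
    obtain ⟨hd', v', hF'⟩ := frame' _ _ h1 (frob_ne_one p hne)
    have h2 := trace_unique h3 hF hd hF' hd' y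
    rw [trace_ofMat, trace_ofMat, trace_frob, trace_matOf, hy, ← map_pow] at h2
    exact ((algebraMap F K).injective h2).symm
  · intro hp1 g hg
    obtain ⟨y, hy⟩ := hφs ⟨g, hg⟩
    have h0 : algebraMap F K c ≠ 0 := by
      intro h
      have := hF.prim
      rw [h] at this
      norm_num at this
    have h1 := frob_z p (dual_z hz h0)
    rw [inv_pow, frob_pow' hF.prim hp1, inv_inv] at h1
    obtain ⟨hd', v', hF'⟩ := frame' _ _ h1 (frob_ne_one p (dual_ne_one hne))
    have h2 := trace_unique h3 hF hd hF' hd' y⁻¹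
    rw [trace_ofMat, trace_ofMat, trace_frob, trace_dual, inv_inv, trace_matOf, trace_matOf, hy, ← map_pow] at h2
    have h4 := (algebraMap F K).injective h2
    rw [← h4, map_inv, hy]
    rfl

/-- a core with a scalar `c`, `c ^ 2 ≠ 1`, is not self-dual -/
theorem not_sd_of_scalar [Finite F] (hC : Core P) {c : F} {g : GL ι F} (hg : g ∈ P) (hgc : (g : Matrix ι ι F) = c • (1 : Matrix ι ι F))
    (hc : c ^ 2 ≠ 1) : ¬ SD P := by
  intro h
  have hne := hC.nonempty
  have key : ∀ f : (ι → F) → (ι → F) → F, IsBilinearForm f → IsNondegenerateForm f →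
      (∀ u v, f (c • u) (c • v) = f u v) → False := by
    intro f hb hn hf
    obtain ⟨i⟩ := hne
    have h1 : ∀ u v, f u v = 0 := by
      intro u v
      have h2 := hf u v
      rw [hb.smul_left, hb.smul_right] at h2
      have h3 : (c ^ 2 - 1) * f u v = 0 := by
        have : (c ^ 2 - 1) * f u v = c * (c * f u v) - f u v := by ring
        rw [this, h2, sub_self]
      rcases mul_eq_zero.1 h3 with h4 | h4
      · exact absurd (sub_eq_zero.1 h4) hc
      · exact h4
    obtain ⟨⟨x, hx⟩, -⟩ := hn (Pi.single i 1) (by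
      intro h
      have h3 := congrFun h i
      rw [Pi.single_eq_same] at h3
      exact one_ne_zero h3)
    exact hx (h1 _ _)
  have hmem : (g : Matrix ι ι F) ∈ matrixSet P := ⟨g, hg, rfl⟩
  rcases hC.forms_of_sd h with ⟨Q, hQ, hfix⟩ | ⟨f, hf, hfix⟩
  · apply key (QuadraticMap.polar Q) hQ.polar_bilinear hQ.nondegenerate
    intro u v
    have h1 : ∀ w, Q (c • w) = Q w := by
      intro w
      have := hfix _ hmem w
      rwa [hgc, Matrix.smul_mulVec, Matrix.one_mulVec] at this
    rw [QuadraticMap.polar, QuadraticMap.polar, ← smul_add, h1, h1, h1]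
  · apply key f hf.bilinear hf.nondegenerate
    intro u v
    have := hfix _ hmem u v
    rwa [hgc, Matrix.smul_mulVec, Matrix.one_mulVec, Matrix.smul_mulVec, Matrix.one_mulVec] at this

theorem core_Suz_not_sd [Finite F] (hC : Core P) (e : Soc P ≃* Suz) (hn : Fintype.card ι ≤ 12) (p : ℕ)
    [hp : Fact p.Prime] [CharP F p] (hp3 : p ≠ 3) : ¬ SD P := by
  obtain ⟨-, ⟨c, hc, g, hg, hgc⟩, -⟩ := core_Suz hC e hn p hp3
  refine not_sd_of_scalar hC hg hgc ?_
  intro h
  rw [show c ^ 4 = (c ^ 2) ^ 2 by ring, h] at hc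
  have h1 : ((3 : ℕ) : F) = 0 := by push_cast; rw [← hc]; norm_num
  rw [CharP.cast_eq_zero_iff F p] at h1
  exact hp3 ((Nat.prime_dvd_prime_iff_eq hp.out Nat.prime_three).1 h1)

end Cfsg.Agent.H878.Sz
end

private theorem dce_450284795893 : _root_.True := by
  try have : _root_.True := by simp only [_root_.Cfsg.Agent.H878.Sz.vec.eq_1]
  try have : _root_.True := by simp only [_root_.Cfsg.Agent.H878.Sz.good.eq_1]
  try have : _root_.True := by simp only [_root_.Cfsg.Agent.H878.Sz.ndB.eq_def]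
  try have : _root_.True := by simp only [_root_.Cfsg.Agent.H878.Sz.orbY.eq_1]
  try have : _root_.True := by simp only [_root_.Cfsg.Agent.H878.Sz.ndB.eq_2]
  try have : _root_.True := by simp only [_root_.Cfsg.Agent.H878.Sz.yA.eq_1]
  try have : _root_.True := by simp only [_root_.Cfsg.Agent.H878.Sz.ndB.eq_1]
  try have : _root_.True := by simp only [_root_.Cfsg.Agent.H878.Sz.cmp.eq_1]
  exact _root_.True.intro
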